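import Mathlib.Data.Nat.Notation
import Mathlib.Data.List.Basic

/-! Type M(22): representatives of the classes of a Sylow 3-subgroup, and their conjugators. -/

set_option autoImplicit false

namespace Cfsg.Agent.TT95.Calc

/-- Four elements of order three, fixing 126, 36, 27, 0 transpositions. -/
def xW : List (List ℕ) := [
  [2, 10, 7, 11, 1, 4, 12, 0, 6, 12, 4, 11, 7, 10],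
  [9, 10, 8, 9, 12, 7, 1, 0, 12, 1, 4, 5, 7, 2],
  [0, 11, 12, 8, 5, 0, 10, 11, 0, 12, 0, 4, 11, 2, 4, 3],
  [0, 9, 12, 1, 11, 8, 10, 4, 1, 2, 12, 3, 0, 4, 6, 8]]

/-- Index, word in the first three of the sequence, type, conjugator. -/
def repL : List (ℕ × List ℕ × ℕ × List ℕ) := [
  (0, [], 4, []),
  (1, [0, 2, 1, 0, 1, 2, 1, 2, 2, 0], 2, [0, 12, 3, 8, 9, 4, 6, 0, 2, 4, 8, 10, 12, 11, 8]),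
  (2, [2, 0, 1, 2, 2, 0, 1, 0, 0, 1, 0, 0], 1, [7, 10, 8, 0, 2, 1, 6, 12, 0, 9, 2, 11, 1, 5, 0, 3]),
  (3, [0, 2, 0, 2, 1, 0, 2, 2, 1, 1], 1, [3, 8, 9, 10, 4, 12, 9, 2, 0, 9, 1, 7, 3, 10, 8, 7]),
  (4, [1, 1, 0, 2, 0, 2, 2, 0, 0, 1, 0, 0], 2, [1, 10, 7, 1, 0, 9, 2, 0, 5, 0, 9, 12, 4, 3, 10]),
  (5, [1, 0, 2, 2, 0, 1, 2, 0, 0, 1, 0, 0], 1, [5, 11, 12, 2, 11, 2, 9, 0, 8, 11, 12, 6, 10, 2]),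
  (6, [2, 0, 2, 2, 0, 2, 1, 2, 1, 1, 0], 1, [0, 9, 5, 4, 1, 5, 0, 1, 0, 12, 9, 11, 5, 4, 10, 0]),
  (7, [0, 2, 1, 2, 2, 1, 0, 1, 2, 2, 0], 2, [2, 10, 8, 1, 9, 4, 12, 0, 11, 8, 3, 1, 6, 0, 7]),
  (8, [2], 1, [0, 3, 7, 5, 1, 12, 10, 9, 0, 6, 10, 0, 3, 12, 9, 11]),
  (9, [2, 2], 1, [0, 6, 9, 6, 2, 0, 12, 5, 0, 1, 12, 9, 4, 3, 7, 1]),
  (10, [1, 0, 1, 2, 2, 0, 1, 0], 2, [5, 9, 8, 6, 12, 9, 8, 4, 9, 3, 7, 9, 1, 12]),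
  (11, [2, 1, 0, 1, 2, 2, 0, 1, 0], 0, [12, 0, 1, 12, 4, 3, 1, 0, 4, 9, 11, 5, 0, 6, 3]),
  (12, [0, 1, 2, 0, 0, 1, 0, 2, 1, 0, 0], 1, [0, 9, 7, 4, 12, 10, 7, 4, 1, 2, 4, 9, 12, 4, 9]),
  (13, [1, 1, 0, 1, 1, 2, 1, 0, 1, 0], 0, [12, 5, 0, 1, 12, 5, 9, 4, 5, 4, 0, 3, 9, 11]),
  (14, [2, 1, 1, 0, 1, 1, 2, 1, 0, 1, 0], 0, [12, 0, 1, 12, 1, 3, 2, 1, 0, 3, 11, 5, 7, 9, 10]),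
  (15, [0, 0, 2, 2, 1, 0, 2, 1, 2, 1], 1, [12, 6, 4, 1, 12, 6, 1, 0, 2, 12, 9, 4, 8, 6, 3]),
  (16, [0, 1, 0, 2, 0, 0, 2, 0, 1, 1, 0], 1, [8, 2, 9, 12, 10, 0, 3, 1, 0, 7, 11, 2, 9, 12]),
  (17, [1, 0, 0, 2, 0, 2, 1, 2, 2, 1], 1, [9, 2, 10, 4, 12, 4, 7, 0, 7, 11, 8, 12, 1, 9, 5]),
  (19, [2, 1, 2, 2, 1, 2, 2, 0, 1, 2, 0, 0], 2, [1, 3, 1, 10, 12, 11, 9, 7, 0, 1, 0, 12, 3, 1, 11, 7, 1]),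
  (20, [0, 1, 0, 2, 1, 0, 1], 2, [12, 7, 3, 1, 10, 4, 2, 0, 4, 2, 12, 4, 2, 3, 11]),
  (21, [1, 2, 2, 1, 2, 2, 0, 1, 2, 0, 0], 1, [10, 8, 5, 11, 3, 6, 3, 1, 0, 12, 6, 10, 3, 4, 1, 0]),
  (22, [0, 0, 2, 0, 1, 1, 2, 0, 2, 1, 0, 0], 2, [12, 1, 0, 12, 8, 11, 3, 1, 2, 6, 11, 10, 2, 0, 8]),
  (23, [0, 2, 2, 0, 2, 1, 2, 1, 1, 0], 1, [0, 12, 1, 9, 1, 5, 4, 2, 1, 0, 1, 9, 12, 8, 10, 12, 6]),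
  (24, [1, 0, 1, 0, 0, 2, 1, 2, 0, 2, 0, 0], 0, [12, 3, 0, 1, 12, 8, 6, 0, 2, 7, 8, 9, 4, 1, 6]),
  (26, [0, 2, 1, 0, 2, 0, 2, 0, 1, 0, 1, 0], 2, [11, 0, 12, 9, 8, 11, 12, 0, 6, 2, 12, 11, 1, 7, 8]),
  (27, [2, 0, 2, 0, 2, 2, 0, 2, 0, 2], 1, [1, 0, 2, 12, 7, 4, 6, 9, 2, 5, 6, 8, 12, 0, 9]),
  (28, [2, 0, 2, 2, 1, 0, 2, 1, 2, 1, 0, 0], 4, []),
  (29, [2, 0, 1, 2, 1, 2, 2, 1], 4, []),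
  (30, [1, 2, 2, 1, 1, 2, 0], 4, []),
  (34, [2, 0, 1, 1, 0, 2, 0, 2, 1, 0], 4, []),
  (52, [0, 1, 0, 2, 0, 0, 2, 2, 1, 0, 1, 0, 0], 3, [4, 5, 0, 12, 7, 2, 9, 0, 6, 4, 9, 1, 5, 10]),
  (54, [2, 0, 0, 1, 2, 2, 1, 0, 0, 1, 0], 4, []),
  (55, [0, 0, 2, 1, 2, 2, 1, 2, 2, 0, 1, 0, 0], 4, []),
  (56, [2, 2, 0, 0, 2], 3, [5, 0, 12, 0, 6, 8, 3, 0, 1, 5, 6, 9, 0, 7, 10]),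
  (59, [2, 2, 1, 2, 0, 0, 1, 0, 2, 1, 0, 0], 4, []),
  (63, [1, 0, 1, 0, 2, 0, 0, 2, 2, 1, 0], 2, [5, 9, 2, 4, 0, 6, 5, 1, 0, 11, 12, 0, 7, 1]),
  (72, [2, 2, 1, 0, 2, 1, 0, 1], 4, []),
  (81, [2, 0, 2, 0, 1, 0, 2, 2, 0, 2, 0, 0], 4, []),
  (82, [0, 1, 1, 0, 1, 0, 1, 2], 4, []),
  (84, [1, 1, 2, 1, 2, 2, 0, 1, 0, 0], 3, [12, 7, 11, 5, 9, 10, 0, 1, 4, 0, 1, 10, 11]),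
  (86, [0, 1, 1, 0, 1, 0, 1], 2, [10, 9, 2, 0, 10, 0, 6, 0, 1, 12, 0, 8, 12, 1]),
  (96, [2, 1, 0, 1, 2, 1, 0, 1, 0, 0, 2, 0, 0], 4, []),
  (101, [0, 1, 2, 0, 2, 0, 0, 2, 0, 0], 4, []),
  (125, [1, 1, 0, 1, 1, 0, 1, 1], 1, [5, 8, 12, 0, 10, 9, 2, 1, 0, 6, 3, 0, 11, 2, 8]),
  (162, [1, 2, 1, 1, 2, 2, 1, 0, 0], 0, [7, 10, 4, 2, 7, 11, 12, 0, 3, 4, 3, 1, 11, 7, 8]),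
  (163, [0, 1, 0, 0, 2, 1, 1, 0, 0, 1], 4, []),
  (164, [0, 0, 2, 2, 0, 0, 2, 1, 0], 4, []),
  (165, [2, 0, 2, 1, 2, 1, 2, 1, 0, 1], 4, []),
  (166, [2, 1, 1, 2, 1, 0, 0, 1, 0, 2, 0, 0], 4, []),
  (168, [2, 2, 1, 2, 1, 0, 2, 1, 2, 1, 0], 4, []),
  (169, [2, 1, 1, 0, 1, 0, 1, 0, 2, 0, 0], 4, []),
  (173, [1, 2, 2, 0, 1, 1, 0, 2, 1], 1, [6, 12, 5, 1, 6, 4, 3, 1, 0, 11, 12, 2, 11, 5, 8, 5]),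
  (189, [1, 0, 1, 1, 2, 1, 0, 1, 0, 0], 3, [0, 12, 2, 0, 5, 4, 6, 3, 10, 2, 9, 8, 6]),
  (190, [1, 1, 0, 0, 2, 1, 1, 0, 1, 2, 0], 4, []),
  (191, [2, 0, 2, 1, 0, 2, 0, 0, 1], 4, []),
  (193, [0, 0, 1, 1, 2, 2, 0, 0], 3, [1, 2, 11, 8, 5, 1, 0, 9, 0, 12, 2, 11, 9, 3, 7, 9]),
  (195, [1, 2, 1, 2, 2, 0, 2], 4, []),
  (198, [0, 0, 1, 1, 2, 2, 0, 0, 2], 3, [0, 12, 6, 2, 4, 9, 2, 1, 0, 2, 8, 9, 6, 1, 11]),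
  (206, [1, 2, 1, 0, 1, 1, 2, 0, 2, 1, 0, 0], 4, []),
  (216, [2, 0, 0, 2, 1, 1, 2, 2], 4, []),
  (217, [0, 0, 2, 0, 0, 2, 1, 1, 0], 4, []),
  (220, [1, 0, 1, 0, 2, 0, 0, 2, 2, 0], 3, [2, 12, 11, 2, 7, 9, 11, 1, 0, 10, 8, 11]),
  (221, [1, 1, 2, 2, 1, 2, 1, 1, 0, 0], 4, []),
  (226, [2, 2, 0, 1, 0, 2, 1], 1, [10, 6, 9, 12, 7, 11, 8, 0, 1, 6, 12, 3, 4, 3, 10]),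
  (228, [1, 2, 1, 0, 1, 1, 2, 0, 2, 1], 4, []),
  (231, [0, 2, 1, 0, 2, 0, 2, 0, 1, 0], 3, [2, 1, 9, 3, 7, 0, 4, 0, 2, 4, 7, 12, 8, 10, 7]),
  (405, [1, 1, 2, 2, 0, 2, 0, 1, 1, 0, 0], 4, []),
  (406, [2, 2, 0, 1, 0, 2, 2, 0, 0, 2], 4, []),
  (407, [2, 2, 1, 0, 1, 2, 0, 1, 1, 0, 0], 3, [12, 8, 0, 1, 9, 10, 8, 0, 4, 0, 9, 3]),
  (410, [1, 1, 2, 2, 1, 0, 2, 1, 2], 4, []),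
  (416, [1, 1, 2, 2, 1, 0, 2, 1], 4, []),
  (439, [2, 2, 1, 2, 2, 1, 2, 2, 0, 1], 2, [0, 10, 9, 6, 0, 2, 12, 9, 0, 1, 7, 10, 2, 12, 6, 4]),
  (486, [1, 0, 2, 1, 1, 2, 2, 1], 1, [0, 9, 11, 10, 3, 0, 2, 12, 0, 3, 6, 11, 12, 9, 2, 11]),
  (488, [2, 1, 0, 2, 0, 0, 2, 0], 3, [5, 0, 12, 3, 9, 4, 2, 1, 0, 3, 10, 8, 11, 1, 10]),
  (513, [1, 0, 1, 2, 2, 0, 0], 4, []),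
  (515, [0, 0, 2, 1, 2, 0, 2, 0, 0, 1, 0], 4, []),
  (517, [1, 2, 2, 1, 0, 0, 2, 0, 2], 4, []),
  (529, [1, 0, 1, 2, 2, 0, 0, 2], 4, []),
  (532, [1, 2, 0, 0, 2, 0, 0, 2, 1, 0, 0], 3, [12, 10, 1, 5, 11, 2, 10, 0, 3, 7, 4, 3, 10]),
  (537, [0, 2, 0, 2, 1, 0, 2, 0, 0, 1, 0], 2, [3, 12, 4, 0, 12, 2, 7, 0, 6, 4, 10, 9, 11, 12]),
  (567, [1, 2, 1, 2, 2], 1, [0, 10, 11, 3, 8, 7, 9, 2, 1, 10, 12, 9, 4, 5, 6, 4]),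
  (594, [0, 2, 0, 1, 0, 1, 0, 2, 1, 0, 0], 3, [2, 10, 6, 8, 4, 7, 9, 2, 6, 1, 12, 10, 7]),
  (595, [0, 1, 1, 0, 0, 2, 2, 1], 3, [0, 12, 2, 0, 4, 2, 12, 2, 1, 7, 12, 9, 5, 10, 11, 2]),
  (596, [2, 2, 1, 1, 2, 2, 0, 2, 0, 1, 0], 3, [8, 7, 3, 9, 0, 12, 6, 1, 5, 9, 5, 4, 3]),
  (597, [2, 1, 2, 1, 0, 1, 2, 2, 0, 0], 3, [8, 2, 12, 1, 3, 8, 10, 0, 11, 10, 2, 6, 1, 12, 8]),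
  (598, [2, 0, 2, 2, 0, 2, 2, 0], 3, [6, 0, 12, 7, 9, 1, 3, 0, 7, 12, 0, 2, 8, 5]),
  (599, [2, 0, 1, 2, 2, 1, 0, 1, 2, 0], 3, [8, 4, 2, 1, 6, 9, 3, 0, 10, 12, 9, 5, 0, 1, 4]),
  (600, [0, 1, 2, 2, 1, 0, 1, 2, 0], 3, [10, 9, 5, 0, 2, 7, 4, 0, 5, 9, 8, 12, 6, 1, 11]),
  (602, [2, 1, 2, 2, 1, 2, 1, 0, 2, 0, 0], 3, [5, 9, 3, 7, 0, 12, 1, 0, 9, 11, 1, 5, 9]),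
  (605, [0, 2, 2, 1, 0, 0, 1, 2, 1], 3, [8, 2, 4, 9, 10, 8, 12, 10, 0, 4, 7, 0, 12, 2]),
  (606, [0, 2, 2, 0, 2, 2, 0], 2, [0, 12, 2, 4, 1, 0, 7, 2, 0, 3, 9, 0, 12, 3, 1, 6]),
  (607, [0, 1, 1, 2, 2, 1, 2, 0, 0], 3, [12, 9, 5, 2, 9, 8, 10, 0, 1, 2, 10, 9, 7, 4]),
  (608, [2, 0, 0, 2, 1, 2, 2, 1, 1, 0], 3, [1, 2, 7, 10, 6, 8, 4, 9, 0, 12, 0, 2, 0, 8, 5, 4]),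
  (611, [1, 2, 2, 1, 2, 1, 0, 2, 0, 0], 3, [12, 7, 9, 8, 3, 6, 5, 4, 6, 9, 10, 1]),
  (612, [2, 2, 0, 2, 2, 0, 2, 2, 0], 2, [0, 9, 8, 11, 3, 8, 3, 2, 1, 0, 10, 12, 0, 2, 9, 1, 12]),
  (613, [2, 0, 1, 1, 2, 2, 1, 2, 0, 0], 3, [2, 1, 10, 4, 0, 3, 6, 0, 1, 2, 8, 12, 9, 11, 8]),
  (614, [1, 2, 1, 0, 1, 2, 2, 0, 0], 3, [1, 7, 9, 8, 0, 12, 8, 6, 2, 10, 9, 1, 12, 11, 9]),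
  (615, [0, 0, 2, 1, 2, 2, 1, 1, 0], 3, [12, 1, 9, 10, 0, 4, 5, 4, 1, 6, 11]),
  (616, [2, 2, 1, 2, 2, 1, 2, 1, 0, 2, 0, 0], 3, [2, 11, 0, 4, 12, 11, 9, 2, 1, 6, 1, 9, 3, 12, 10, 7]),
  (617, [0, 2, 1, 2, 1, 2, 0, 2, 1, 0], 3, [12, 9, 4, 0, 9, 11, 2, 1, 8, 5, 0, 9, 4]),
  (620, [2, 0, 0, 2, 1, 0, 1, 0, 1, 0, 0], 3, [4, 1, 12, 9, 5, 11, 1, 4, 6, 9, 0, 5]),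
  (706, [2, 0, 0, 1, 1, 0, 2, 0], 4, []),
  (708, [2, 1, 2, 1, 0, 0, 2, 0, 0], 3, [7, 11, 7, 8, 12, 2, 9, 5, 11, 8, 9, 0, 3]),
  (711, [2, 0, 1, 2, 1, 0, 0, 2, 2, 0], 4, []),
  (733, [1, 1, 0, 1, 1, 0, 0], 1, [2, 6, 5, 8, 10, 4, 6, 0, 1, 5, 12, 9, 6, 7, 9, 12]),
  (837, [2, 1, 1, 2, 0, 2, 0, 2, 1, 1], 3, [12, 0, 5, 4, 1, 12, 6, 0, 2, 8, 9, 11, 9, 7, 3]),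
  (841, [0, 1, 0, 2, 1, 2, 1, 0, 1, 0, 0], 3, [6, 0, 10, 9, 3, 1, 4, 0, 12, 8, 6, 10, 1, 12, 1]),
  (846, [0, 1, 2, 0, 2, 0, 0, 2, 0], 3, [2, 12, 6, 2, 0, 3, 10, 9, 11, 10, 9, 2, 3]),
  (1350, [2, 0, 2, 2, 0, 1, 0, 1, 0], 0, [2, 11, 1, 9, 2, 10, 11, 2, 7, 4, 3]),
  (1374, [2, 2, 1, 1, 2, 0], 2, [11, 0, 7, 6, 8, 12, 4, 7, 10, 3, 12, 11, 7, 1]),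
  (1469, [2, 2, 1, 2, 0, 0], 2, [4, 12, 1, 0, 3, 8, 10, 0, 4, 3, 1, 5, 12, 8]),
  (1698, [1, 1, 0, 1, 1, 0, 1, 1, 0], 2, [0, 6, 0, 1, 4, 5, 11, 12, 1, 0, 5, 10, 9, 7, 10, 8]),
  (1728, [1, 2, 2, 0, 0, 1, 0, 0, 2], 1, [12, 0, 7, 9, 2, 12, 4, 3, 9, 6, 4, 12, 3, 9]),
  (2220, [1, 1, 0, 1, 2, 2, 1, 2, 0], 3, [8, 1, 11, 0, 12, 6, 3, 0, 10, 0, 11, 9, 1, 0]),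
  (2404, [2, 0, 2, 0, 1, 0, 0, 1, 1, 0, 0], 3, [12, 0, 9, 6, 8, 1, 3, 0, 6, 4, 8, 6, 9]),
  (2405, [1, 2, 2, 0, 1, 2, 0, 1, 0], 3, [12, 3, 6, 0, 2, 10, 3, 0, 7, 9, 6, 1, 11]),
  (2406, [0, 2, 0, 1, 0, 0, 1, 1, 0, 0], 3, [1, 6, 4, 7, 10, 5, 4, 0, 4, 5, 12, 0, 9, 12, 11]),
  (2407, [1, 2, 1, 2, 0, 1, 1, 0, 1, 1, 0], 2, [1, 0, 12, 2, 1, 10, 4, 12, 0, 1, 2, 9, 12, 10, 0, 2, 0]),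
  (2408, [2, 2, 1, 2, 2, 0, 1, 2, 0, 1, 0], 3, [10, 5, 9, 4, 12, 11, 0, 1, 6, 1, 4, 9, 10, 7, 11]),
  (2409, [0, 2, 2, 0, 2, 2, 1, 1, 0, 1], 3, [1, 12, 3, 9, 0, 10, 6, 0, 1, 5, 9, 3, 7, 1, 11]),
  (2411, [2, 0, 1, 1, 0, 1, 2, 0], 3, [12, 9, 0, 10, 3, 7, 5, 1, 6, 9, 3, 8, 10]),
  (2412, [0, 0, 2, 1, 1, 2, 0, 0, 2, 0, 1, 0], 3, [1, 5, 9, 1, 7, 4, 0, 6, 0, 12, 6, 2, 10, 9, 6, 11]),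
  (2413, [0, 1, 2, 1, 0, 0, 2, 2, 1], 3, [3, 12, 11, 10, 1, 6, 8, 12, 1, 0, 12, 8, 3, 10, 2, 6]),
  (2414, [1, 1, 2, 2, 0, 2, 0, 2, 1, 0], 3, [1, 12, 2, 6, 0, 10, 11, 3, 4, 8, 9, 0, 11]),
  (2416, [0, 1, 2, 2, 1, 0, 2, 1, 2, 0], 3, [1, 12, 10, 0, 5, 1, 6, 2, 7, 3, 9, 4, 3]),
  (2417, [1, 0, 2, 1, 2, 1, 2, 1, 1, 0, 1, 0], 2, [8, 12, 4, 7, 1, 4, 2, 0, 1, 11, 12, 2, 10, 8, 11]),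
  (2425, [1, 2, 1, 2, 0, 0, 2, 1, 0], 3, [12, 2, 1, 7, 0, 3, 4, 0, 5, 1, 10, 7]),
  (2427, [1, 1, 2, 0, 2, 0, 0, 2, 1], 3, [2, 4, 3, 9, 11, 7, 4, 12, 9, 2, 0, 10, 9, 11]),
  (2428, [1, 0, 1, 2, 0, 0, 1, 0, 2, 0, 0], 3, [2, 10, 9, 2, 1, 6, 0, 4, 0, 1, 2, 12, 11, 9, 1, 2, 7]),
  (2429, [2, 2, 0, 1, 1, 0, 1, 2, 0], 3, [12, 10, 8, 12, 1, 10, 4, 0, 12, 3, 11, 12, 0, 8, 5]),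
  (2646, [0, 0, 2, 1, 2, 1, 2, 0, 1], 1, [3, 0, 7, 4, 1, 12, 2, 1, 5, 12, 10, 7, 2, 9, 8]),
  (2648, [2, 1, 1, 2, 2, 0, 1, 0, 0], 1, [1, 5, 9, 5, 1, 12, 11, 4, 5, 6, 9, 2, 5, 6, 7]),
  (2655, [0, 0, 2, 1, 0, 1, 0, 0, 2, 1, 0], 1, [4, 3, 10, 8, 5, 9, 12, 0, 1, 4, 0, 6, 12, 6, 3, 0]),
  (2657, [0, 2, 1, 2, 0, 0, 1, 1, 2], 1, [3, 12, 4, 0, 1, 11, 4, 0, 7, 12, 0, 4, 10, 0, 5]),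
  (2661, [1, 0, 1, 1, 2, 0, 0], 3, [0, 9, 3, 7, 10, 12, 0, 4, 1, 5, 4, 2, 0, 12, 9, 0]),
  (2662, [0, 1, 0, 0, 2, 2, 1, 1], 3, [4, 1, 11, 0, 2, 6, 8, 0, 1, 9, 11, 12, 6, 8, 10]),
  (2666, [0, 2, 1, 2, 1, 2, 2, 0, 1, 0], 1, [7, 11, 2, 0, 4, 12, 0, 7, 4, 5, 8, 11, 8, 9]),
  (2672, [2, 2, 0, 0, 2, 1, 0, 1, 1], 1, [3, 0, 6, 12, 9, 10, 12, 4, 1, 2, 8, 6, 10, 8, 6, 4]),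
  (2704, [0, 1, 1, 2, 2, 1, 1, 0, 1, 1, 0], 3, [8, 12, 3, 4, 9, 3, 6, 0, 5, 11, 7, 9, 0]),
  (2710, [0, 0, 1, 0, 0, 1, 0, 1, 0], 3, [4, 2, 7, 1, 4, 12, 3, 0, 2, 3, 0, 8, 5, 4, 7]),
  (2715, [2, 0, 1, 2, 0, 2, 0, 0, 1, 0, 1, 0], 1, [9, 4, 2, 12, 7, 10, 2, 0, 12, 6, 3, 9, 10, 3, 7]),
  (2717, [0, 1, 1, 2, 2, 0, 2, 1, 0], 1, [5, 1, 0, 10, 5, 4, 12, 8, 5, 4, 7, 10, 2, 9]),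
  (2719, [0, 1, 2, 0, 2, 0, 0, 1, 0, 1, 0], 1, [0, 8, 11, 8, 7, 3, 12, 5, 0, 8, 12, 0, 1, 0, 2, 11]),
  (2723, [0, 0, 1, 2, 2, 1, 0, 0, 1, 0, 0], 3, [3, 8, 9, 0, 2, 9, 11, 9, 0, 1, 3, 9, 4, 12, 9, 3, 6]),
  (2819, [1, 0, 0, 1, 0, 0, 1, 0, 0], 2, []),
  (3433, [0, 2, 0, 2, 0], 2, [12, 11, 4, 3, 8, 10, 12, 2, 0, 9, 7, 10]),
  (3435, [2, 2, 0, 2, 0, 2, 0], 3, [1, 12, 5, 8, 4, 1, 3, 0, 4, 6, 3, 0, 11]),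
  (3443, [2, 0, 2, 0, 2, 0], 2, [8, 6, 12, 3, 10, 5, 9, 8, 12, 4, 6, 10, 0, 5]),
  (3618, [1, 0, 2, 2, 1, 0, 1, 2, 0], 2, [0, 2, 7, 9, 10, 8, 1, 7, 1, 2, 12, 11, 8, 3, 1, 10]),
  (3630, [2, 0, 1, 0, 1, 1, 2, 0], 3, [10, 3, 9, 8, 4, 7, 3, 1, 0, 7, 0, 1, 6]),
  (3634, [1, 2, 2, 1, 0, 1, 0, 0], 3, [2, 10, 8, 7, 10, 1, 6, 0, 2, 7, 3, 6]),
  (3636, [0, 2, 0, 1, 0, 1, 1], 3, [5, 4, 12, 0, 5, 8, 9, 10, 0, 2, 0, 12, 10, 11]),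
  (3642, [2, 1, 1, 0, 1, 2, 1, 2, 1, 1, 0, 0], 2, [2, 9, 1, 4, 0, 12, 1, 0, 12, 6, 1, 5, 8, 10, 9]),
  (3804, [0, 1, 2, 2, 1, 1, 0, 2, 0], 1, [4, 2, 1, 11, 10, 0, 12, 0, 1, 0, 10, 0, 4, 8, 12, 11]),
  (4266, [2, 0, 2, 0, 2, 1, 0, 0, 1, 1, 0, 0], 1, [3, 9, 8, 3, 9, 12, 1, 9, 10, 0, 4, 12, 6, 4]),
  (4267, [2, 0, 2, 0, 2, 1, 2, 1, 0, 1], 1, [7, 9, 11, 1, 4, 6, 2, 12, 0, 6, 3, 4, 10, 8, 12, 0]),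
  (4763, [1, 0, 1, 0, 1, 1, 0, 1, 0, 1, 0, 0], 2, [2, 11, 8, 12, 11, 1, 9, 0, 12, 10, 8, 3, 9, 3, 8]),
  (5249, [1, 0, 2, 0, 0, 1, 0, 1, 0, 0], 3, [0, 1, 11, 3, 10, 5, 8, 12, 0, 7, 10, 0, 3, 0, 9, 11]),
  (5258, [2, 0, 2, 2, 1, 0, 1, 1, 2, 0], 2, [8, 11, 10, 12, 10, 0, 5, 1, 11, 5, 0, 8, 6, 9]),
  (5609, [1, 0, 1, 0, 2, 0, 1], 3, [11, 10, 6, 9, 11, 0, 12, 5, 4, 1, 8, 10, 11, 12]),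
  (6041, [2, 1, 0, 1, 1, 0, 2, 0, 0, 2, 0, 0], 2, [12, 2, 9, 5, 4, 12, 9, 0, 4, 9, 5, 6, 0, 5, 8]),
  (6486, [1, 0, 0, 1, 1, 0], 3, [1, 7, 0, 10, 12, 4, 0, 5, 12, 2, 10, 9, 8, 11]),
  (14915, [2, 1, 0, 2, 0, 1, 2, 1, 0], 2, [0, 8, 4, 9, 12, 11, 9, 3, 0, 2, 9, 0, 2, 9, 4, 12])]

end Cfsg.Agent.TT95.Calc
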