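import Cfsg.Agent.TT95.Calc.Table
import Cfsg.Agent.TT95.Calc.ClassData
import Cfsg.Agent.TT95.Calc.WidthData

/-! Type M(22): kernel checks of the widths of the sets fixed by the four elements of order three. -/

set_option autoImplicit false

namespace Cfsg.Agent.TT95.Calc

/-- The fixed points. -/
def fixP : ℕ → List ℕ
  | 0 => fixP0
  | 1 => fixP1
  | 2 => fixP2
  | _ => fixP3

/-- Their masks. -/
def fixM : ℕ → List ℕ
  | 0 => fixM0
  | 1 => fixM1
  | 2 => fixM2
  | _ => fixM3

/-- The widths. -/
def widthN : ℕ → ℕ
  | 0 => 6
  | 1 => 4
  | 2 => 3
  | _ => 0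

/-- The first element and the rest, at every place of the list. -/
def allTails (f : ℕ → List ℕ → Bool) : List ℕ → Bool
  | [] => true
  | x :: r => f x r && allTails f r

/-- No more than `n` pairwise adjacent indices among the candidates. -/
def cliqueLE (adj : ℕ → ℕ → Bool) : ℕ → List ℕ → Bool
  | 0, cand => cand.isEmpty
  | n + 1, cand => allTails (fun x r => cliqueLE adj n (r.filter (adj x))) cand

/-- The adjacency of indices. -/
def idxAdj (k i j : ℕ) : Bool := Nat.testBit ((fixM k).getD i 0) j

theorem fixP_check : ((List.range 4).all fun k => (List.range 3510).all fun t =>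
    (fixP k).any (fun u => Nat.beq u t) == Nat.beq (act (xW.getD k []) t) t) = true := by
  decide +kernel

theorem fixM_check : ((List.range 4).all fun k => (List.range (fixP k).length).all fun i =>
    (List.range (fixP k).length).all fun j =>
      idxAdj k i j == comB ((fixP k).getD i 0) ((fixP k).getD j 0)) = true := by
  decide +kernel

theorem clique_check : ((List.range 4).all fun k =>
    cliqueLE (idxAdj k) (widthN k) (List.range (fixP k).length)) = true := by
  decide +kernel

theorem big_check : ((List.range 4).all fun k =>
    let L := bigL.getD k []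
    Nat.beq L.length (widthN k) && allTails (fun x r => r.all fun y => !Nat.beq x y && comB x y) L &&
      L.all (fun t => (fixP k).any fun u => Nat.beq u t)) = true := by
  decide +kernel

end Cfsg.Agent.TT95.Calc
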