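import Cfsg.Agent.TT95.Calc.Classes
import Cfsg.Agent.TT95.Calc.WidthCheck
import Cfsg.Prelude.Def_FischerSpaces

/-!
Type M(22): the widths of the transpositions fixed by the four elements of order three, and the classes of
subgroups of order three.
-/

set_option autoImplicit false
set_option linter.unusedSectionVars false

namespace Cfsg.Agent.TT95.Calc

open Cfsg.Agent.TT95.Uni22

theorem allTails_cons {f : ℕ → List ℕ → Bool} {x : ℕ} {r : List ℕ} :
    allTails f (x :: r) = (f x r && allTails f r) := rfl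

theorem cliqueLE_sound (adj : ℕ → ℕ → Bool) : ∀ (n : ℕ) (cand : List ℕ), cliqueLE adj n cand = true →
    ∀ E : Finset ℕ, (∀ x ∈ E, x ∈ cand) → (∀ x ∈ E, ∀ y ∈ E, adj x y = true) → E.card ≤ n
  | 0, cand, hc, E, hE, _ => by
    have : cand = [] := List.isEmpty_iff.1 hc
    subst this
    simp [Finset.eq_empty_of_forall_notMem fun x hx => List.not_mem_nil (hE x hx)]
  | n + 1, cand, hc, E, hE, hadj => by
    induction cand with
    | nil => simp [Finset.eq_empty_of_forall_notMem fun x hx => List.not_mem_nil (hE x hx)]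
    | cons x r ih =>
      have hc' : allTails (fun x r => cliqueLE adj n (r.filter (adj x))) (x :: r) = true := hc
      rw [allTails_cons, Bool.and_eq_true] at hc'
      by_cases hx : x ∈ E
      · have h1 := cliqueLE_sound adj n _ hc'.1 (E.erase x) (fun y hy => by
          rw [Finset.mem_erase] at hy
          exact List.mem_filter.2 ⟨(List.mem_cons.1 (hE y hy.2)).resolve_left hy.1, hadj x hx y hy.2⟩)
          (fun y hy z hz => hadj y (Finset.mem_of_mem_erase hy) z (Finset.mem_of_mem_erase hz))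
        rw [Finset.card_erase_of_mem hx] at h1
        omega
      · exact ih hc'.2 fun y hy => (List.mem_cons.1 (hE y hy)).resolve_left fun e => hx (e ▸ hy)

theorem allTails_pairwise {R : ℕ → ℕ → Bool} : ∀ {L : List ℕ}, allTails (fun x r => r.all (R x)) L = true →
    L.Pairwise fun x y => R x y = true
  | [], _ => List.Pairwise.nil
  | x :: r, e => by
    rw [allTails_cons, Bool.and_eq_true, List.all_eq_true] at e
    exact List.pairwise_cons.2 ⟨e.1, allTails_pairwise e.2⟩

variable {G : Type*} [Group G] [Finite G] {D : Set G} (hC : Cfg22 D) [Gen D] {a d : G} {δ : ℕ → G}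
  (h : Std D a d δ)

include hC h

theorem fix_name_iff {k t : ℕ} (hk : k < 4) (ht : t < 3510) :
    Commute (ev d δ (xw k)) (name a d δ t) ↔ t ∈ fixP k := by
  have e := List.all_eq_true.1 (List.all_eq_true.1 fixP_check k (List.mem_range.2 hk)) t (List.mem_range.2 ht)
  rw [beq_iff_eq] at e
  rw [commute_ev_name hC h (xw_spec hC h hk).1 ht]
  constructor
  · intro he
    rw [show act (xW.getD k []) t = t from he, Nat.beq_refl] at e
    obtain ⟨u, hu, e'⟩ := List.any_eq_true.1 e
    exact Nat.eq_of_beq_eq_true e' ▸ hu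
  · intro hm
    rw [show (fixP k).any (fun u => Nat.beq u t) = true from
      List.any_eq_true.2 ⟨t, hm, Nat.beq_refl t⟩] at e
    exact Nat.eq_of_beq_eq_true e.symm

theorem width_spec {k : ℕ} (hk : k < 4) :
    Cfsg.commutingWidth (D ∩ (Subgroup.centralizer ((Subgroup.zpowers (ev d δ (xw k)) : Subgroup G) : Set G) : Set G)) =
      widthN k := by
  set x := ev d δ (xw k) with hx
  have hmem : ∀ v, v ∈ D ∩ (Subgroup.centralizer ((Subgroup.zpowers x : Subgroup G) : Set G) : Set G) ↔
      ∃ t < 3510, t ∈ fixP k ∧ name a d δ t = v := by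
    intro v
    constructor
    · rintro ⟨hv, hc⟩
      obtain ⟨t, ht, rfl⟩ := exists_name hC h hv
      exact ⟨t, ht, (fix_name_iff hC h hk ht).1
        (Subgroup.mem_centralizer_iff.1 hc x (Subgroup.mem_zpowers x)), rfl⟩
    · rintro ⟨t, ht, hm, rfl⟩
      refine ⟨name_mem hC h ht, Subgroup.mem_centralizer_iff.2 fun y hy => ?_⟩
      obtain ⟨i, rfl⟩ := Subgroup.mem_zpowers_iff.1 hy
      exact (((fix_name_iff hC h hk ht).2 hm).zpow_left i).eq
  rw [Cfsg.commutingWidth]
  refine IsGreatest.csSup_eq ⟨?_, ?_⟩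
  · have e := List.all_eq_true.1 big_check k (List.mem_range.2 hk)
    simp only [Bool.and_eq_true] at e
    obtain ⟨⟨e1, e2⟩, e3⟩ := e
    set L := bigL.getD k [] with hL
    have hLf : ∀ t ∈ L, t ∈ fixP k := fun t ht => by
      obtain ⟨u, hu, e'⟩ := List.any_eq_true.1 (List.all_eq_true.1 e3 t ht)
      exact Nat.eq_of_beq_eq_true e' ▸ hu
    have hlt : ∀ t ∈ L, t < 3510 := by
      have hchk : ((List.range 4).all fun k => (bigL.getD k []).all fun t => Nat.blt t 3510) = true := by decide +kernel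
      exact fun t ht => Nat.le_of_ble_eq_true (List.all_eq_true.1 (List.all_eq_true.1 hchk k (List.mem_range.2 hk)) t ht)
    have hp := allTails_pairwise e2
    refine ⟨(name a d δ) '' {t | t ∈ L}, ?_, Set.toFinite _, ?_, ?_⟩
    · rintro _ ⟨t, ht, rfl⟩
      exact (hmem _).2 ⟨t, hlt t ht, hLf t ht, rfl⟩
    · rintro _ ⟨s, hs, rfl⟩ _ ⟨t, ht, rfl⟩
      by_cases hst : s = t
      · rw [hst]
      obtain ⟨i, hi, rfl⟩ := List.getElem_of_mem hs
      obtain ⟨j, hj, rfl⟩ := List.getElem_of_mem ht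
      rw [List.pairwise_iff_getElem] at hp
      rcases Nat.lt_trichotomy i j with hl | hl | hl
      · have := hp i j hi hj hl
        rw [Bool.and_eq_true] at this
        exact (commute_iff hC h (hlt _ hs) (hlt _ ht)).2 this.2
      · exact absurd (by subst hl; rfl) hst
      · have := hp j i hj hi hl
        rw [Bool.and_eq_true] at this
        exact ((commute_iff hC h (hlt _ ht) (hlt _ hs)).2 this.2).symm
    · have hnd : L.Nodup := by
        refine hp.imp fun {s t} e => ?_
        rw [Bool.and_eq_true, Bool.not_eq_true'] at e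
        rintro rfl
        rw [Nat.beq_refl] at e
        exact Bool.noConfusion e.1
      have hinjL : Set.InjOn (name a d δ) {t | t ∈ L} := fun s hs t ht e => name_inj hC h (hlt s hs) (hlt t ht) e
      rw [hinjL.ncard_image,
        show {t | t ∈ L} = ↑L.toFinset by ext t; simp, Set.ncard_coe_finset, List.toFinset_card_of_nodup hnd]
      exact Nat.eq_of_beq_eq_true e1
  · rintro n ⟨E, hE, -, hcomm, rfl⟩
    classical
    have hidx : ∀ v ∈ E, ∃ i < (fixP k).length, (fixP k).getD i 0 < 3510 ∧ name a d δ ((fixP k).getD i 0) = v := by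
      intro v hv
      obtain ⟨t, ht, hm, e⟩ := (hmem v).1 (hE hv)
      obtain ⟨i, hi, rfl⟩ := List.getElem_of_mem hm
      exact ⟨i, hi, by rw [List.getD_eq_getElem _ _ hi]; exact ht, by rw [List.getD_eq_getElem _ _ hi]; exact e⟩
    choose! φ hφ1 hφ2 hφ3 using hidx
    have hinj : Set.InjOn φ E := fun u hu v hv e => by rw [← hφ3 u hu, e, hφ3 v hv]
    rw [← hinj.ncard_image, Set.ncard_eq_toFinset_card _ (Set.toFinite _)]
    refine cliqueLE_sound (idxAdj k) _ _ (List.all_eq_true.1 clique_check k (List.mem_range.2 hk)) _ ?_ ?_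
    · intro i hi
      obtain ⟨v, hv, rfl⟩ := (Set.toFinite _).mem_toFinset.1 hi
      exact List.mem_range.2 (hφ1 v hv)
    · intro i hi j hj
      obtain ⟨u, hu, rfl⟩ := (Set.toFinite _).mem_toFinset.1 hi
      obtain ⟨v, hv, rfl⟩ := (Set.toFinite _).mem_toFinset.1 hj
      have e := List.all_eq_true.1 (List.all_eq_true.1 (List.all_eq_true.1 fixM_check k (List.mem_range.2 hk))
        (φ u) (List.mem_range.2 (hφ1 u hu))) (φ v) (List.mem_range.2 (hφ1 v hv))
      rw [beq_iff_eq] at e
      rw [e, ← commute_iff hC h (hφ2 u hu) (hφ2 v hv), hφ3 u hu, hφ3 v hv]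
      exact hcomm u hu v hv

omit hC h in
theorem width_conj {G : Type*} [Group G] [Finite G] {D : Set G} (hD : TTSet D) (X : Subgroup G) (g : G) :
    Cfsg.commutingWidth (D ∩ (Subgroup.centralizer ((X.map (MulAut.conj g).toMonoidHom : Subgroup G) : Set G) : Set G)) =
      Cfsg.commutingWidth (D ∩ (Subgroup.centralizer (X : Set G) : Set G)) := by
  have step : ∀ (Y : Subgroup G) (g : G) (v : G),
      v ∈ D ∩ (Subgroup.centralizer (Y : Set G) : Set G) →
      g * v * g⁻¹ ∈ D ∩ (Subgroup.centralizer ((Y.map (MulAut.conj g).toMonoidHom : Subgroup G) : Set G) : Set G) := by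
    intro Y g v hv
    refine ⟨conj_mem hD g hv.1, Subgroup.mem_centralizer_iff.2 ?_⟩
    rintro _ ⟨y, hy, rfl⟩
    exact ((Commute.conj_iff g).2 (Subgroup.mem_centralizer_iff.1 hv.2 y hy : Commute y v)).eq
  have hback : (X.map (MulAut.conj g).toMonoidHom).map (MulAut.conj g⁻¹).toMonoidHom = X := by
    rw [Subgroup.map_map]
    conv_rhs => rw [← Subgroup.map_id X]
    congr 1
    ext y
    show g⁻¹ * (g * y * g⁻¹) * g⁻¹⁻¹ = y
    group
  rw [Cfsg.commutingWidth, Cfsg.commutingWidth]
  congr 1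
  ext n
  constructor
  · rintro ⟨E, hE, -, hc, rfl⟩
    refine ⟨(fun v => g⁻¹ * v * g⁻¹⁻¹) '' E, ?_, Set.toFinite _, ?_, ?_⟩
    · rintro _ ⟨v, hv, rfl⟩
      have := step _ g⁻¹ v (hE hv)
      rwa [hback] at this
    · rintro _ ⟨u, hu, rfl⟩ _ ⟨v, hv, rfl⟩
      exact (Commute.conj_iff _).2 (hc u hu v hv)
    · exact Set.ncard_image_of_injective _ fun u v e => mul_left_cancel (mul_right_cancel e)
  · rintro ⟨E, hE, -, hc, rfl⟩
    refine ⟨(fun v => g * v * g⁻¹) '' E, ?_, Set.toFinite _, ?_, ?_⟩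
    · rintro _ ⟨v, hv, rfl⟩
      exact step _ g v (hE hv)
    · rintro _ ⟨u, hu, rfl⟩ _ ⟨v, hv, rfl⟩
      exact (Commute.conj_iff _).2 (hc u hu v hv)
    · exact Set.ncard_image_of_injective _ fun u v e => mul_left_cancel (mul_right_cancel e)

/-- A subgroup of order three is conjugate to one of the four, found by its width. -/
theorem three_class (hcore : Core22 G D) (X : Subgroup G) (hX : Nat.card X = 3) :
    ∃ k < 4, (∃ g : G, X.map (MulAut.conj g).toMonoidHom = Subgroup.zpowers (ev d δ (xw k))) ∧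
      Cfsg.commutingWidth (D ∩ (Subgroup.centralizer (X : Set G) : Set G)) = widthN k := by
  haveI := Fact.mk Nat.prime_three
  obtain ⟨⟨x, hxX⟩, hx⟩ := (isCyclic_of_prime_card hX).exists_ofOrder_eq_natCard
  rw [hX, Subgroup.orderOf_mk] at hx
  have hXx : Subgroup.zpowers x = X :=
    Subgroup.eq_of_le_of_card_ge (Subgroup.zpowers_le.2 hxX) (by rw [Nat.card_zpowers, hx, hX])
  obtain ⟨k, hk, g, e⟩ := order_three_class hC h hcore hx
  have hmap : X.map (MulAut.conj g⁻¹).toMonoidHom = Subgroup.zpowers (ev d δ (xw k)) := by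
    rw [← hXx, MonoidHom.map_zpowers]
    congr 1
    show g⁻¹ * x * g⁻¹⁻¹ = _
    rw [e]
    group
  refine ⟨k, hk, ⟨g⁻¹, hmap⟩, ?_⟩
  rw [← width_conj h.tt X g⁻¹, hmap, width_spec hC h hk]

end Cfsg.Agent.TT95.Calc
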