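import Cfsg.Agent.TT95.Calc.Table
import Cfsg.Agent.TT95.Uni22.Unique
import Cfsg.Agent.TT95.LayBase

/-!
Type M(22): evaluation of words in the generators of the model; equality and commutation are read off from
points.
-/

set_option autoImplicit false
set_option linter.unusedSectionVars false

namespace Cfsg.Agent.TT95.Calc

open Cfsg.Agent.TT95.Uni22

theorem ncard_mask (m N : ℕ) : {v | v < N ∧ m.testBit v = true}.ncard = (List.range N).countP fun v => m.testBit v := by
  rw [show {v | v < N ∧ m.testBit v = true} = ↑((Finset.range N).filter fun v => m.testBit v = true) by ext v; simp,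
    Set.ncard_coe_finset, List.countP_eq_length_filter, Finset.card_def, Finset.filter_val]
  simp [Finset.range, Multiset.range]

variable {G : Type*} [Group G] [Finite G] {D : Set G} (hC : Cfg22 D) [Gen D] {a d : G} {δ : ℕ → G}
  (h : Std D a d δ)

/-- The element of a word. -/
def ev (d : G) (δ : ℕ → G) (w : List ℕ) : G := (w.map (gen d δ)).prod

theorem validW_iff {w : List ℕ} : validW w = true ↔ ∀ i ∈ w, i < 13 := by
  rw [validW, List.all_eq_true]
  exact ⟨fun hw i hi => Nat.le_of_ble_eq_true (hw i hi), fun hw i hi => Nat.ble_eq_true_of_le (hw i hi)⟩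

theorem validW_append {u v : List ℕ} : validW (u ++ v) = (validW u && validW v) := List.all_append

theorem validW_reverse {u : List ℕ} : validW u.reverse = validW u := by
  rw [validW, validW, List.all_reverse]

theorem act_append (u v : List ℕ) (t : ℕ) : act (u ++ v) t = act u (act v t) := List.foldr_append

theorem ev_append (u v : List ℕ) : ev d δ (u ++ v) = ev d δ u * ev d δ v := by
  simp [ev, List.map_append, List.prod_append]

theorem ev_nil : ev d δ [] = 1 := rfl

theorem ev_singleton (i : ℕ) : ev d δ [i] = gen d δ i := by simp [ev]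

include h

theorem ev_reverse (u : List ℕ) : ev d δ u.reverse = (ev d δ u)⁻¹ := prod_rev h u

omit h
include hC h

theorem gt_spec {i t : ℕ} (hi : i < 13) (ht : t < 3510) :
    gt i t < 3510 ∧ gen d δ i * name a d δ t * (gen d δ i)⁻¹ = name a d δ (gt i t) := by
  have e : gt i t = eTgt (ent t i) := Nat.eq_of_beq_eq_true
    (List.all_eq_true.1 (List.all_eq_true.1 row_check t (List.mem_range.2 ht)) i (List.mem_range.2 hi))
  obtain ⟨h1, h2⟩ := ent_spec h ht hi
  rw [e, inv_eq h.tt (gen_memD h i)]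
  exact ⟨h1, h2⟩

theorem act_spec : ∀ {w : List ℕ} {t : ℕ}, validW w = true → t < 3510 →
    act w t < 3510 ∧ ev d δ w * name a d δ t * (ev d δ w)⁻¹ = name a d δ (act w t)
  | [], t, _, ht => ⟨ht, by simp [ev, act]⟩
  | i :: w, t, hw, ht => by
    have hw' := validW_iff.1 hw
    obtain ⟨h1, h2⟩ := act_spec (w := w) (validW_iff.2 fun j hj => hw' j (List.mem_cons_of_mem _ hj)) ht
    obtain ⟨h3, h4⟩ := gt_spec hC h (hw' i (List.mem_cons_self ..)) h1
    refine ⟨h3, ?_⟩
    show gen d δ i * ev d δ w * name a d δ t * (gen d δ i * ev d δ w)⁻¹ = name a d δ (gt i (act w t))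
    rw [← h4, ← h2]
    group

theorem name_mem {t : ℕ} (ht : t < 3510) : name a d δ t ∈ D := (numbering hC h).1.mapsTo ht

theorem name_inj {s t : ℕ} (hs : s < 3510) (ht : t < 3510) (e : name a d δ s = name a d δ t) : s = t :=
  (numbering hC h).1.injOn hs ht e

theorem exists_name {x : G} (hx : x ∈ D) : ∃ t < 3510, name a d δ t = x := by
  obtain ⟨t, ht, e⟩ := (numbering hC h).1.surjOn hx
  exact ⟨t, ht, e⟩

theorem commute_ev_name {w : List ℕ} {t : ℕ} (hw : validW w = true) (ht : t < 3510) :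
    Commute (ev d δ w) (name a d δ t) ↔ act w t = t := by
  obtain ⟨h1, h2⟩ := act_spec hC h hw ht
  constructor
  · intro hc
    rw [hc.eq, mul_inv_cancel_right] at h2
    exact (name_inj hC h ht h1 h2).symm
  · intro e
    rw [e] at h2
    exact mul_inv_eq_iff_eq_mul.1 h2

theorem path_spec {t : ℕ} (ht : t < 3510) : validW (pathW t) = true :=
  List.all_eq_true.1 path_check t (List.mem_range.2 ht)

omit hC in
theorem nameF_eq : ∀ (f t : ℕ), nameF a d δ f t = ev d δ (pathF f t) * a * (ev d δ (pathF f t))⁻¹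
  | 0, t => by simp [nameF, pathF, ev]
  | f + 1, t => by
    by_cases h0 : t = 0
    · subst h0
      simp [nameF, pathF, ev]
    · have hb : Nat.beq t 0 = false := Bool.eq_false_iff.2 fun e => h0 (Nat.eq_of_beq_eq_true e)
      rw [nameF, if_neg h0, nameF_eq f (parP t), pathF, hb, cond_false]
      show _ = gen d δ (parG t) * ev d δ (pathF f (parP t)) * a *
        (gen d δ (parG t) * ev d δ (pathF f (parP t)))⁻¹
      rw [mul_inv_rev, inv_eq h.tt (gen_memD h (parG t))]
      group

theorem name_eq (t : ℕ) : name a d δ t = ev d δ (pathW t) * a * (ev d δ (pathW t))⁻¹ := nameF_eq h 8 t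

theorem name_zero : name a d δ 0 = a := by
  show nameF a d δ 8 0 = a
  simp [nameF]

theorem far_steps : ∀ (L : List ℕ) (seen : ℕ), farOK L seen = true →
    (∀ u, seen.testBit u = true → u < 3510 ∧ name a d δ u ∈ far D a) →
    ∀ u, farM.testBit u = true → u < 3510 ∧ name a d δ u ∈ far D a
  | [], seen, hok, hs => by
    rw [← Nat.eq_of_beq_eq_true (hok : Nat.beq seen farM = true)]
    exact hs
  | e :: L, seen, hok, hs => by
    simp only [farOK, Bool.and_eq_true] at hok
    obtain ⟨⟨⟨⟨⟨e1, e2⟩, e3⟩, e4⟩, -⟩, e6⟩ := hok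
    have hg : Nat.land (Nat.shiftRight e 12) 15 < 12 := Nat.le_of_ble_eq_true e2
    obtain ⟨x1, x2⟩ := hs _ e1
    obtain ⟨-, h2⟩ := gt_spec hC h (i := Nat.land (Nat.shiftRight e 12) 15) (by omega) x1
    rw [Nat.eq_of_beq_eq_true e4] at h2
    refine far_steps L _ e6 (fun u hu => ?_)
    rw [show Nat.lor seen (Nat.shiftLeft 1 (Nat.shiftRight e 16)) = seen ||| 1 <<< (Nat.shiftRight e 16) from rfl,
      Nat.testBit_or, Nat.one_shiftLeft, Nat.testBit_two_pow, Bool.or_eq_true, decide_eq_true_eq] at hu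
    rcases hu with hu | hu
    · exact hs u hu
    subst hu
    refine ⟨Nat.le_of_ble_eq_true e3, ?_⟩
    rw [← h2]
    have hga : gen d δ (Nat.land (Nat.shiftRight e 12) 15) * a * (gen d δ (Nat.land (Nat.shiftRight e 12) 15))⁻¹ = a := by
      rw [gen, if_pos hg]
      exact mul_inv_eq_iff_eq_mul.2 (h.mem _ (gX_mem hg).2).2.2.symm.eq
    refine ⟨conj_mem h.tt _ x2.1, fun hc => x2.2 ((Commute.conj_iff (gen d δ (Nat.land (Nat.shiftRight e 12) 15))).1 ?_)⟩
    rw [hga]
    exact hc

theorem far_iff {u : ℕ} (hu : u < 3510) : name a d δ u ∈ far D a ↔ farM.testBit u = true := by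
  have hb := base_check
  simp only [Bool.and_eq_true] at hb
  obtain ⟨⟨⟨⟨⟨b1, b2⟩, b3⟩, b4⟩, b5⟩, b6⟩ := hb
  have hseed : ∀ u, (Nat.shiftLeft 1 x0).testBit u = true → u < 3510 ∧ name a d δ u ∈ far D a := by
    intro u hu
    rw [show Nat.shiftLeft 1 x0 = 1 <<< x0 from rfl, Nat.one_shiftLeft, Nat.testBit_two_pow, decide_eq_true_eq] at hu
    subst hu
    rw [← Nat.eq_of_beq_eq_true b5]
    obtain ⟨h1, h2⟩ := gt_spec hC h (i := 12) (t := 0) (by norm_num) (by norm_num)
    refine ⟨h1, ?_⟩
    rw [← h2, name_zero hC h, show gen d δ 12 = d by simp [gen]]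
    refine ⟨conj_mem h.tt d h.mema, fun hc => h.memd.2 ?_⟩
    have e : d * a * d = a * d * a := (braid h.tt h.mema h.memd.1 h.memd.2).symm
    rw [inv_eq h.tt h.memd.1, e] at hc
    have := (Commute.conj_iff a).2 hc
    rwa [mul_inv_cancel_right, inv_eq h.tt h.mema, show a * (a * d * a) * a = (a * a) * d * (a * a) by group,
      sq h.tt h.mema, one_mul, mul_one] at this
  have hall := far_steps hC h farL _ b6 hseed
  have hcard : ((List.range 3510).countP fun v => farM.testBit v) = 2816 := by decide +kernel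
  set S := {v | v < 3510 ∧ farM.testBit v = true} with hS
  have hSc : S.ncard = 2816 := by
    rw [← hcard, hS]
    exact ncard_mask farM 3510
  have hsub : name a d δ '' S ⊆ far D a := by
    rintro _ ⟨v, hv, rfl⟩
    exact (hall v hv.2).2
  have heq : name a d δ '' S = far D a := by
    refine Set.eq_of_subset_of_ncard_le hsub ?_
    have hsplit := Lay.card_split (lay22 hC h.mema) h.mema (Set.toFinite D)
    rw [Set.ncard_image_of_injOn (fun v hv v' hv' e => name_inj hC h hv.1 hv'.1 e), hSc]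
    omega
  refine ⟨fun hf => ?_, fun ht => (hall u ht).2⟩
  rw [← heq] at hf
  obtain ⟨v, hv, e⟩ := hf
  rw [← name_inj hC h hv.1 hu e]
  exact hv.2

theorem commute_iff {t u : ℕ} (ht : t < 3510) (hu : u < 3510) :
    Commute (name a d δ t) (name a d δ u) ↔ comB t u = true := by
  have hp := path_spec hC h ht
  have hp' : validW (pathW t).reverse = true := by rw [validW_reverse]; exact hp
  obtain ⟨h1, h2⟩ := act_spec hC h hp' hu
  rw [ev_reverse h, inv_inv] at h2
  have key : Commute (name a d δ t) (name a d δ u) ↔ Commute a (name a d δ (act (pathW t).reverse u)) := by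
    rw [name_eq hC h t, ← h2, ← Commute.conj_iff (ev d δ (pathW t))⁻¹, inv_inv,
      show (ev d δ (pathW t))⁻¹ * (ev d δ (pathW t) * a * (ev d δ (pathW t))⁻¹) * ev d δ (pathW t) = a by group]
  have h0 : act (pathW t).reverse u = 0 ↔ t = u := by
    constructor
    · intro e
      rw [e, name_zero hC h] at h2
      refine name_inj hC h ht hu ?_
      rw [name_eq hC h t]
      exact (congrArg (fun x => ev d δ (pathW t) * x * (ev d δ (pathW t))⁻¹) h2).symm.trans (by group)
    · rintro rfl
      refine name_inj hC h h1 (by norm_num) ?_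
      rw [name_zero hC h, ← h2, name_eq hC h t]
      group
  rw [key, comB, adjB]
  simp only [Bool.or_eq_true, Bool.and_eq_true, Bool.not_eq_true']
  by_cases e0 : act (pathW t).reverse u = 0
  · rw [e0, name_zero hC h]
    exact iff_of_true (Commute.refl a) (Or.inl (h0.1 e0 ▸ Nat.beq_refl t))
  constructor
  · intro hc
    refine Or.inr ⟨Bool.eq_false_iff.2 fun e => e0 (Nat.eq_of_beq_eq_true e), Bool.eq_false_iff.2 fun e => ?_⟩
    exact ((far_iff hC h h1).2 e).2 hc
  · rintro (e | ⟨-, e⟩)
    · exact absurd (h0.2 (Nat.eq_of_beq_eq_true e)) e0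
    · by_contra hc
      rw [(far_iff hC h h1).1 ⟨name_mem hC h h1, hc⟩] at e
      exact Bool.noConfusion e

theorem tgL_lt {i : ℕ} (hi : i < 13) : tgL.getD i 0 < 3510 := by
  have hb := base_check
  simp only [Bool.and_eq_true] at hb
  obtain ⟨⟨⟨⟨⟨b1, b2⟩, b3⟩, b4⟩, b5⟩, b6⟩ := hb
  have hl : i < tgL.length := by rw [Nat.eq_of_beq_eq_true b3]; exact hi
  rw [List.getD_eq_getElem _ _ hl]
  exact Nat.le_of_ble_eq_true (List.all_eq_true.1 b4 _ (List.getElem_mem hl))

theorem gen_eq_name {i : ℕ} (hi : i < 13) : gen d δ i = name a d δ (tgL.getD i 0) := by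
  have ht := tgL_lt hC h hi
  have hfix : ∀ u < 3510, (Commute (gen d δ i) (name a d δ u) ↔ comB (tgL.getD i 0) u = true) := by
    intro u hu
    have e := List.all_eq_true.1 (List.all_eq_true.1 fix_check i (List.mem_range.2 hi)) u (List.mem_range.2 hu)
    rw [beq_iff_eq] at e
    have hc := commute_ev_name hC h (w := [i]) (t := u) (validW_iff.2 (by simp [hi])) hu
    rw [ev_singleton] at hc
    rw [hc, ← e]
    exact ⟨fun e' => by rw [show gt i u = u from e']; exact Nat.beq_refl u, fun e' => Nat.eq_of_beq_eq_true e'⟩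
  refine hC.tf _ (gen_memD h i) _ (name_mem hC h ht) (fun x hx => ?_) ?_
  · obtain ⟨u, hu, rfl⟩ := exists_name hC h hx
    rw [hfix u hu, commute_iff hC h ht hu]
  · rw [hfix _ ht, comB, Nat.beq_refl, Bool.true_or]

theorem memW_spec {t : ℕ} (ht : t < 3510) : validW (memW t) = true ∧ ev d δ (memW t) = name a d δ t := by
  have hb := base_check
  simp only [Bool.and_eq_true] at hb
  obtain ⟨⟨⟨⟨⟨b1, b2⟩, b3⟩, b4⟩, b5⟩, b6⟩ := hb
  have hp := path_spec hC h ht
  have hv1 : validW (pathW t ++ u0) = true := by rw [validW_append, hp, b1]; rfl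
  refine ⟨by rw [memW, validW_append, hv1, Bool.true_and, validW, List.all_cons, ← validW, validW_reverse, hv1]; rfl, ?_⟩
  obtain ⟨-, h2⟩ := act_spec hC h b1 (tgL_lt hC h (i := 12) (by norm_num))
  rw [Nat.eq_of_beq_eq_true b2, name_zero hC h, ← gen_eq_name hC h (by norm_num : 12 < 13)] at h2
  rw [memW, show (12 :: (pathW t ++ u0).reverse) = [12] ++ (pathW t ++ u0).reverse from rfl]
  simp only [ev_append, ev_singleton, ev_reverse h]
  rw [name_eq hC h t, ← h2]
  group

theorem ev_eq_of_eqB {u v : List ℕ} (hu : validW u = true) (hv : validW v = true) (he : eqB u v = true) :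
    ev d δ u = ev d δ v := by
  have hl : ∀ i < 13, tgL.getD i 0 ∈ tgL := fun i hi => by
    have hb := base_check
    simp only [Bool.and_eq_true] at hb
    obtain ⟨⟨⟨⟨⟨b1, b2⟩, b3⟩, b4⟩, b5⟩, b6⟩ := hb
    rw [List.getD_eq_getElem _ _ (by rw [Nat.eq_of_beq_eq_true b3]; exact hi)]
    exact List.getElem_mem _
  set g := (ev d δ v)⁻¹ * ev d δ u with hg
  have hfix : ∀ i < 13, Commute g (gen d δ i) := by
    intro i hi
    have e := Nat.eq_of_beq_eq_true (List.all_eq_true.1 he _ (hl i hi))
    obtain ⟨-, hu2⟩ := act_spec hC h hu (tgL_lt hC h hi)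
    obtain ⟨-, hv2⟩ := act_spec hC h hv (tgL_lt hC h hi)
    rw [e, ← hv2, ← gen_eq_name hC h hi] at hu2
    refine mul_inv_eq_iff_eq_mul.1 ?_
    rw [hg, show (ev d δ v)⁻¹ * ev d δ u * gen d δ i * ((ev d δ v)⁻¹ * ev d δ u)⁻¹ =
      (ev d δ v)⁻¹ * (ev d δ u * gen d δ i * (ev d δ u)⁻¹) * ev d δ v by group, hu2]
    group
  have hle : Subgroup.closure (gen d δ '' {i | i < 13}) ≤ Subgroup.centralizer {g} := by
    rw [Subgroup.closure_le]
    rintro _ ⟨i, hi, rfl⟩
    exact Subgroup.mem_centralizer_singleton_iff.2 (hfix i hi).symm.eq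
  rw [(numbering hC h).2] at hle
  have hcen : g ∈ Subgroup.center G :=
    Subgroup.mem_center_iff.2 fun k => Subgroup.mem_centralizer_singleton_iff.1 (hle (Subgroup.mem_top k))
  rw [hC.center, Subgroup.mem_bot, hg, inv_mul_eq_one] at hcen
  exact hcen.symm

theorem exists_word (g : G) : ∃ w, validW w = true ∧ ev d δ w = g := by
  have hg : g ∈ Subgroup.closure (gen d δ '' {i | i < 13}) := by rw [(numbering hC h).2]; exact Subgroup.mem_top g
  induction hg using Subgroup.closure_induction with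
  | mem x hx =>
    obtain ⟨i, hi, rfl⟩ := hx
    exact ⟨[i], validW_iff.2 (by simpa using hi), ev_singleton i⟩
  | one => exact ⟨[], rfl, ev_nil⟩
  | mul x y _ _ hx hy =>
    obtain ⟨u, hu, rfl⟩ := hx
    obtain ⟨v, hv, rfl⟩ := hy
    exact ⟨u ++ v, by rw [validW_append, hu, hv]; rfl, ev_append u v⟩
  | inv x _ hx =>
    obtain ⟨u, hu, rfl⟩ := hx
    exact ⟨u.reverse, by rw [validW_reverse]; exact hu, ev_reverse h u⟩

end Cfsg.Agent.TT95.Calc
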