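import Cfsg.Agent.TT95.Calc.SylDefs
import Cfsg.Agent.TT95.Calc.ClassData

/-! Type M(22): kernel checks for the classes of a Sylow 3-subgroup. -/

set_option autoImplicit false

namespace Cfsg.Agent.TT95.Calc

/-- A representative. -/
def repE (r : ℕ) : ℕ × List ℕ × ℕ × List ℕ := repL.getD r (0, [], 4, [])

/-- An element of order three. -/
def xw (k : ℕ) : List ℕ := xW.getD k []

theorem node_check : ((List.range 19683).all fun n =>
    let e := clT n
    Nat.blt (clC e) 163 && cond (Nat.beq (clD e) 0) (Nat.beq (repE (clC e)).1 n)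
      (Nat.blt (clK e) 3 && Nat.blt (clM e) 19683 && Nat.blt (clD (clT (clM e))) (clD e) &&
        Nat.beq (clC (clT (clM e))) (clC e) && Nat.beq (lT (clK e) (rT (clK e) (clM e))) n)) = true := by
  decide +kernel

theorem rep_check : ((List.range 163).all fun r =>
    let e := repE r
    let w := e.2.1
    (w.all fun i => Nat.blt i 3) && Nat.blt e.1 19683 && Nat.beq (vA e.1) (pact w 0) && Nat.beq (vB e.1) (pact w 1) &&
      cond (Nat.blt e.2.2.1 4)
        (validW e.2.2.2 && tgL.all fun t => Nat.beq (pact w t) (act (e.2.2.2 ++ xw e.2.2.1 ++ e.2.2.2.reverse) t))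
        (eqP w [] || !eqP (w ++ w ++ w) [])) = true := by
  decide +kernel

theorem xw_check : ((List.range 4).all fun k => validW (xw k) && eqB (xw k ++ xw k ++ xw k) [] &&
    !eqB (xw k) []) = true := by
  decide +kernel

end Cfsg.Agent.TT95.Calc
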