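import Cfsg.Agent.TT95.Calc.SylGroup
import Cfsg.Agent.TT95.Calc.ClassCheck
import Cfsg.Agent.TT95.Orders

/-!
Type M(22): every element of order three is conjugate to one of four.
-/

set_option autoImplicit false
set_option linter.unusedSectionVars false

namespace Cfsg.Agent.TT95.Calc

open Cfsg.Agent.TT95.Uni22

variable {G : Type*} [Group G] [Finite G] {D : Set G} (hC : Cfg22 D) [Gen D] {a d : G} {δ : ℕ → G}
  (h : Std D a d δ)

/-- Three of the sequence generate. -/
def sylQ (d : G) (δ : ℕ → G) : Subgroup G := Subgroup.closure (pg d δ '' {i | i < 3})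

/-- The property carried along the subgroup. -/
def Indexed (a d : G) (δ : ℕ → G) (x : G) : Prop :=
  ∃ n, HasIdx a d δ x n ∧ ∀ k < 3, HasIdx a d δ (x * (pg d δ k)⁻¹) (rT k n)

theorem closure_left {T : Set G} {p : G → Prop} (h1 : p 1) (hT : ∀ t ∈ T, ∀ x, p x → p (t * x)) {x : G}
    (hx : x ∈ Subgroup.closure T) : p x := by
  induction hx using Subgroup.closure_induction_left with
  | one => exact h1
  | mul_left t ht y _ hy => exact hT t ht y hy
  | inv_mul_cancel t ht y _ hy =>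
    have hpow : ∀ n : ℕ, p (t ^ n * y) := by
      intro n
      induction n with
      | zero => simpa using hy
      | succ n ih => rw [pow_succ', mul_assoc]; exact hT t ht _ ih
    have e : t⁻¹ = t ^ (orderOf t - 1) := by
      refine inv_eq_of_mul_eq_one_left ?_
      rw [← pow_succ, Nat.sub_add_cancel (orderOf_pos t), pow_orderOf_eq_one]
    rw [e]
    exact hpow _

theorem sylQ_le : sylQ d δ ≤ sylP d δ := by
  rw [sylQ, Subgroup.closure_le]
  rintro _ ⟨i, hi, rfl⟩
  exact Subgroup.subset_closure (List.mem_map.2 ⟨i, List.mem_range.2 (by simp at hi; omega), rfl⟩)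

include hC h

theorem indexed {x : G} (hx : x ∈ sylQ d δ) : Indexed a d δ x := by
  refine closure_left ?_ ?_ hx
  · refine ⟨id0, hasIdx_one hC h, fun k hk => ?_⟩
    have e := id_check
    simp only [Bool.and_eq_true] at e
    obtain ⟨-, e4⟩ := e
    have e5 := List.all_eq_true.1 e4 k (List.mem_range.2 hk)
    simp only [Bool.and_eq_true] at e5
    obtain ⟨⟨f1, f2⟩, f3⟩ := e5
    have hlt : rT k id0 < 19683 := Nat.le_of_ble_eq_true f1
    obtain ⟨-, p0⟩ := prow_spec hC h (i := k) (by omega) (vA_lt hC h hlt).1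
    obtain ⟨-, p1⟩ := prow_spec hC h (i := k) (by omega) (vA_lt hC h hlt).2
    rw [Nat.eq_of_beq_eq_true f2] at p0
    rw [Nat.eq_of_beq_eq_true f3] at p1
    refine ⟨hlt, ?_, ?_⟩
    · rw [← p0]; group
    · rw [← p1]; group
  · rintro _ ⟨p, hp, rfl⟩ y ⟨m, hm, hmr⟩
    refine ⟨lT p m, left_step hC h hp hm, fun k hk => ?_⟩
    have e := List.all_eq_true.1 (List.all_eq_true.1 right_check m (List.mem_range.2 hm.1)) k (List.mem_range.2 hk)
    rw [Bool.and_eq_true] at e
    rw [Nat.eq_of_beq_eq_true (List.all_eq_true.1 e.2 p (List.mem_range.2 hp)), mul_assoc]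
    exact left_step hC h hp (hmr k hk)

theorem rep_spec {r : ℕ} (hr : r < 163) :
    pev d δ (repE r).2.1 ∈ sylQ d δ ∧ HasIdx a d δ (pev d δ (repE r).2.1) (repE r).1 := by
  have e := List.all_eq_true.1 rep_check r (List.mem_range.2 hr)
  simp only [Bool.and_eq_true] at e
  obtain ⟨⟨⟨⟨e1, e0⟩, e2⟩, e3⟩, -⟩ := e
  have hw : ∀ i ∈ (repE r).2.1, i < 3 := fun i hi => Nat.le_of_ble_eq_true (List.all_eq_true.1 e1 i hi)
  have hQ : pev d δ (repE r).2.1 ∈ sylQ d δ :=
    pev_mem_span fun i hi => Subgroup.subset_closure ⟨i, hw i hi, rfl⟩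
  refine ⟨hQ, ?_⟩
  have hv : validP (repE r).2.1 = true := validP_iff.2 fun i hi => by have := hw i hi; omega
  obtain ⟨-, p0⟩ := pact_spec hC h hv (t := 0) (by norm_num)
  obtain ⟨-, p1⟩ := pact_spec hC h hv (t := 1) (by norm_num)
  rw [← Nat.eq_of_beq_eq_true e2] at p0
  rw [← Nat.eq_of_beq_eq_true e3] at p1
  exact ⟨Nat.le_of_ble_eq_true e0, p0, p1⟩

theorem node_spec : ∀ (k n : ℕ), n < 19683 → clD (clT n) = k → ∃ r < 163, ∃ g ∈ sylQ d δ,
    HasIdx a d δ (g * pev d δ (repE r).2.1 * g⁻¹) n := by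
  intro k
  induction k using Nat.strong_induction_on with
  | _ k ih =>
    intro n hn hk
    have e := List.all_eq_true.1 node_check n (List.mem_range.2 hn)
    simp only [Bool.and_eq_true] at e
    obtain ⟨e1, e2⟩ := e
    by_cases h0 : clD (clT n) = 0
    · rw [h0, Nat.beq_refl, cond_true] at e2
      refine ⟨clC (clT n), Nat.le_of_ble_eq_true e1, 1, one_mem _, ?_⟩
      have hr2 := (rep_spec hC h (r := clC (clT n)) (Nat.le_of_ble_eq_true e1)).2
      rw [Nat.eq_of_beq_eq_true e2] at hr2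
      rwa [one_mul, inv_one, mul_one]
    · have hb : Nat.beq (clD (clT n)) 0 = false := Bool.eq_false_iff.2 fun e => h0 (Nat.eq_of_beq_eq_true e)
      rw [hb, cond_false] at e2
      simp only [Bool.and_eq_true] at e2
      obtain ⟨⟨⟨⟨f1, f2⟩, f3⟩, -⟩, f5⟩ := e2
      have hp : clK (clT n) < 3 := Nat.le_of_ble_eq_true f1
      obtain ⟨r, hr, g, hg, hx⟩ := ih _ (hk ▸ Nat.le_of_ble_eq_true f3) _ (Nat.le_of_ble_eq_true f2) rfl
      refine ⟨r, hr, pg d δ (clK (clT n)) * g, mul_mem (Subgroup.subset_closure ⟨_, hp, rfl⟩) hg, ?_⟩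
      obtain ⟨m, hm, hmr⟩ := indexed hC h (mul_mem (mul_mem hg (rep_spec hC h hr).1) (inv_mem hg))
      rw [idx_unique hC h hm hx] at hmr
      have hstep := left_step hC h hp (hmr _ hp)
      rw [Nat.eq_of_beq_eq_true f5] at hstep
      rw [show pg d δ (clK (clT n)) * g * pev d δ (repE r).2.1 *
        (pg d δ (clK (clT n)) * g)⁻¹ = pg d δ (clK (clT n)) * (g * pev d δ (repE r).2.1 * g⁻¹ *
          (pg d δ (clK (clT n)))⁻¹) by group]
      exact hstep

theorem syl_facts : Nat.card (sylP d δ) = 19683 ∧ sylQ d δ = sylP d δ ∧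
    ∀ x ∈ sylP d δ, ∀ y ∈ sylP d δ, ∀ n, HasIdx a d δ x n → HasIdx a d δ y n → x = y := by
  obtain ⟨-, hle⟩ := syl_bound hC h
  have hex : ∀ n : Fin 19683, ∃ x : sylQ d δ, HasIdx a d δ (x : G) n := by
    intro n
    obtain ⟨r, hr, g, hg, hx⟩ := node_spec hC h _ n n.2 rfl
    exact ⟨⟨_, mul_mem (mul_mem hg (rep_spec hC h hr).1) (inv_mem hg)⟩, hx⟩
  choose f hf using hex
  have hinj : Function.Injective f := fun m n e => Fin.ext (idx_unique hC h (hf m) (e ▸ hf n))
  have h1 : 19683 ≤ Nat.card (sylQ d δ) := by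
    have := Nat.card_le_card_of_injective f hinj
    rwa [Nat.card_fin] at this
  have h2 : Nat.card (sylQ d δ) ≤ Nat.card (sylP d δ) :=
    Nat.le_of_dvd Nat.card_pos (Subgroup.card_dvd_of_le sylQ_le)
  have hQP : sylQ d δ = sylP d δ := Subgroup.eq_of_le_of_card_ge sylQ_le (by omega)
  refine ⟨by omega, hQP, fun x hx y hy n hxn hyn => ?_⟩
  have hbij : Function.Bijective f := (Nat.bijective_iff_injective_and_card f).2 ⟨hinj, by rw [Nat.card_fin]; omega⟩
  rw [← hQP] at hx hy
  obtain ⟨i, hi⟩ := hbij.2 ⟨x, hx⟩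
  obtain ⟨j, hj⟩ := hbij.2 ⟨y, hy⟩
  have e1 : (i : ℕ) = n := idx_unique hC h (hf i) (by rw [hi]; exact hxn)
  have e2 : (j : ℕ) = n := idx_unique hC h (hf j) (by rw [hj]; exact hyn)
  exact congrArg Subtype.val (hi.symm.trans ((congrArg f (Fin.ext (e1.trans e2.symm))).trans hj))

theorem syl_class {x : G} (hx : x ∈ sylP d δ) : ∃ r < 163, ∃ g ∈ sylP d δ, x = g * pev d δ (repE r).2.1 * g⁻¹ := by
  obtain ⟨-, hQP, huni⟩ := syl_facts hC h
  obtain ⟨n, hn, -⟩ := indexed hC h (hQP.symm ▸ hx : x ∈ sylQ d δ)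
  obtain ⟨r, hr, g, hg, hy⟩ := node_spec hC h _ n hn.1 rfl
  have hg' : g ∈ sylP d δ := hQP ▸ hg
  exact ⟨r, hr, g, hg', huni x hx _ (mul_mem (mul_mem hg' (hQP ▸ (rep_spec hC h hr).1)) (inv_mem hg')) n hn hy⟩

theorem sylow_eq (hcore : Core22 G D) : ∃ P : Sylow 3 G, (P : Subgroup G) = sylP d δ := by
  haveI := Fact.mk Nat.prime_three
  obtain ⟨Q, hQ⟩ := IsPGroup.exists_le_sylow (syl_bound hC h).1
  refine ⟨Q, (Subgroup.eq_of_le_of_card_ge hQ ?_).symm⟩
  rw [(syl_facts hC h).1]
  obtain ⟨n, hn⟩ := IsPGroup.iff_card.1 Q.2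
  rw [hn]
  have hdvd := Subgroup.card_subgroup_dvd_card (Q : Subgroup G)
  rw [hn, card_group hC h.mema hcore] at hdvd
  have hn9 : n ≤ 9 := by
    by_contra hc
    have := (pow_dvd_pow 3 (show 10 ≤ n by omega)).trans hdvd
    omega
  exact Nat.pow_le_pow_right (by norm_num) hn9

theorem xw_spec {k : ℕ} (hk : k < 4) : validW (xw k) = true ∧ orderOf (ev d δ (xw k)) = 3 := by
  have e := List.all_eq_true.1 xw_check k (List.mem_range.2 hk)
  simp only [Bool.and_eq_true, Bool.not_eq_true'] at e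
  obtain ⟨⟨e1, e2⟩, e3⟩ := e
  haveI := Fact.mk Nat.prime_three
  refine ⟨e1, orderOf_eq_prime ?_ fun h1 => ?_⟩
  · have := ev_eq_of_eqB hC h (u := xw k ++ xw k ++ xw k) (v := []) (by simp [validW_append, e1]) rfl e2
    rw [ev_append, ev_append, ev_nil] at this
    rw [pow_succ, pow_two, this]
  · suffices he : eqB (xw k) [] = true by rw [he] at e3; exact Bool.noConfusion e3
    refine List.all_eq_true.2 fun t ht => ?_
    have hb := base_check
    simp only [Bool.and_eq_true] at hb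
    obtain ⟨⟨⟨⟨⟨b1, b2⟩, b3⟩, b4⟩, b5⟩, b6⟩ := hb
    have ht' : t < 3510 := Nat.le_of_ble_eq_true (List.all_eq_true.1 b4 t ht)
    rw [(commute_ev_name hC h e1 ht').1 (h1 ▸ Commute.one_left _)]
    exact Nat.beq_refl t

theorem order_three_class (hcore : Core22 G D) {x : G} (hx : orderOf x = 3) :
    ∃ k < 4, ∃ g : G, x = g * ev d δ (xw k) * g⁻¹ := by
  haveI := Fact.mk Nat.prime_three
  obtain ⟨P, hP⟩ := sylow_eq hC h hcore
  obtain ⟨Q, hQ⟩ := IsPGroup.exists_le_sylow (p := 3) (P := Subgroup.zpowers x)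
    (IsPGroup.of_card (n := 1) (by rw [Nat.card_zpowers, hx, pow_one]))
  obtain ⟨t, ht⟩ := MulAction.exists_smul_eq G Q P
  have hmem : t * x * t⁻¹ ∈ sylP d δ := by
    rw [← hP, ← ht, Sylow.coe_subgroup_smul, Subgroup.mem_pointwise_smul_iff_inv_smul_mem]
    refine hQ ?_
    simp [MulAut.smul_def, mul_assoc, Subgroup.mem_zpowers]
  obtain ⟨r, hr, g, -, hgr⟩ := syl_class hC h hmem
  have e := List.all_eq_true.1 rep_check r (List.mem_range.2 hr)
  simp only [Bool.and_eq_true] at e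
  obtain ⟨⟨⟨⟨e1, -⟩, -⟩, -⟩, e4⟩ := e
  set w := (repE r).2.1 with hw
  have hvP : validP w = true := validP_iff.2 fun i hi => by
    have : i < 3 := Nat.le_of_ble_eq_true (List.all_eq_true.1 e1 i hi)
    omega
  have hb := base_check
  simp only [Bool.and_eq_true] at hb
  obtain ⟨⟨⟨⟨⟨b1, b2⟩, b3⟩, b4⟩, b5⟩, b6⟩ := hb
  have hrx : orderOf (pev d δ w) = 3 := by
    rw [← hx, ← orderOf_injective (MulAut.conj t).toMonoidHom (MulAut.conj t).injective x]
    show _ = orderOf (t * x * t⁻¹)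
    rw [hgr]
    exact (orderOf_injective (MulAut.conj g).toMonoidHom (MulAut.conj g).injective _).symm
  have hone : ∀ {u : List ℕ}, validP u = true → pev d δ u = 1 → eqP u [] = true := fun hu he =>
    List.all_eq_true.2 fun s hs => by
      have hs' : s < 3510 := Nat.le_of_ble_eq_true (List.all_eq_true.1 b4 s hs)
      obtain ⟨h1, h2⟩ := pact_spec hC h hu hs'
      rw [he, one_mul, inv_one, mul_one] at h2
      rw [← name_inj hC h hs' h1 h2]
      exact Nat.beq_refl s
  by_cases h4 : (repE r).2.2.1 < 4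
  · rw [show Nat.blt (repE r).2.2.1 4 = true from Nat.ble_eq_true_of_le h4, cond_true, Bool.and_eq_true] at e4
    obtain ⟨f1, f2⟩ := e4
    have hxk := (xw_spec hC h h4).1
    set c := (repE r).2.2.2
    have heq : pev d δ w = ev d δ c * ev d δ (xw (repE r).2.2.1) * (ev d δ c)⁻¹ := by
      rw [← ev_reverse h, ← ev_append, ← ev_append]
      refine eq_of_fix hC h fun i hi => ?_
      have hlt := tgL_lt hC h hi
      obtain ⟨-, p2⟩ := pact_spec hC h hvP hlt
      obtain ⟨-, q2⟩ := act_spec hC h (w := c ++ xw (repE r).2.2.1 ++ c.reverse)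
        (by rw [validW_append, validW_append, validW_reverse, f1, hxk]; rfl) hlt
      have hl : i < tgL.length := by rw [Nat.eq_of_beq_eq_true b3]; exact hi
      rw [p2, q2]
      refine congrArg _ ?_
      rw [List.getD_eq_getElem _ _ hl]
      exact Nat.eq_of_beq_eq_true (List.all_eq_true.1 f2 _ (List.getElem_mem hl))
    refine ⟨_, h4, t⁻¹ * g * ev d δ c, ?_⟩
    rw [show x = t⁻¹ * (t * x * t⁻¹) * t by group, hgr, heq]
    group
  · exfalso
    rw [show Nat.blt (repE r).2.2.1 4 = false from Bool.eq_false_iff.2 fun e => h4 (Nat.le_of_ble_eq_true e),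
      cond_false, Bool.or_eq_true, Bool.not_eq_true'] at e4
    rcases e4 with e4 | e4
    · have := pev_eq_of_eqP hC h hvP (v := []) rfl e4
      rw [this] at hrx
      simp [pev] at hrx
    · have h3 : pev d δ (w ++ w ++ w) = 1 := by
        rw [pev_append, pev_append]
        have := pow_orderOf_eq_one (pev d δ w)
        rwa [hrx, pow_succ, pow_two] at this
      rw [hone (validP_iff.2 (fun i hi => by
        have := validP_iff.1 hvP i
        simp only [List.mem_append, or_self] at hi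
        exact this hi)) h3] at e4
      exact Bool.noConfusion e4

end Cfsg.Agent.TT95.Calc
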