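import Mathlib.GroupTheory.PGroup
import Mathlib.GroupTheory.QuotientGroup.Basic

/-! A list of elements, each of which normalises the subgroup of the later ones and has its cube there, generates
a 3-group of order at most the power of three given by its length. -/

set_option autoImplicit false

namespace Cfsg.Agent.TT95.Calc

open scoped Pointwise

variable {G : Type*} [Group G]

/-- The span of a list. -/
def spanL (L : List G) : Subgroup G := Subgroup.closure {x | x ∈ L}

/-- The polycyclic conditions. -/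
def PcOK : List G → Prop
  | [] => True
  | g :: t => g ^ 3 ∈ spanL t ∧ (∀ x ∈ t, g * x * g⁻¹ ∈ spanL t) ∧ PcOK t

variable [Finite G]

/-- One step of a polycyclic list multiplies the order by three at most. -/
theorem card_cons_le {g : G} {t : List G} (hok : PcOK (g :: t)) :
    Nat.card (spanL (g :: t)) ≤ 3 * Nat.card (spanL t) := by
  obtain ⟨h3, hconj, ht⟩ := hok
  set H := spanL t with hH
  set φ := (MulAut.conj g).toMonoidHom with hφ
  have hmap : H.map φ = H := by
    refine Subgroup.eq_of_le_of_card_ge ?_ (by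
      rw [Nat.card_congr (Subgroup.equivMapOfInjective H φ (MulAut.conj g).injective).symm.toEquiv])
    rw [hH, spanL, MonoidHom.map_closure, Subgroup.closure_le]
    rintro _ ⟨x, hx, rfl⟩
    exact hconj x hx
  have hnorm : g ∈ Subgroup.normalizer (H : Set G) := by
    rw [Subgroup.mem_normalizer_iff]
    intro x
    refine ⟨fun hx => hmap ▸ ⟨x, hx, rfl⟩, fun hx => ?_⟩
    rw [← hmap] at hx
    obtain ⟨y, hy, e⟩ := hx
    have : y = x := (MulAut.conj g).injective (e.trans rfl)
    exact this ▸ hy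
  set K : Subgroup G := Subgroup.zpowers g ⊔ H with hK
  have hspan : spanL (g :: t) = K := by
    rw [hK, hH, spanL, spanL, Subgroup.zpowers_eq_closure, ← Subgroup.closure_union]
    congr 1
    ext x
    simp [List.mem_cons]
  have hpow3 : ∀ n : ℤ, g ^ (3 * n) ∈ H := fun n => by
    rw [zpow_mul, show g ^ (3 : ℤ) = g ^ 3 from zpow_natCast g 3]
    exact zpow_mem h3 n
  have hmem : ∀ x ∈ K, ∃ i < 3, ∃ y ∈ H, x = g ^ i * y := by
    intro x hx
    have hx' : x ∈ ((Subgroup.zpowers g : Set G) * (H : Set G)) := by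
      rw [← Subgroup.coe_mul_of_left_le_normalizer_right _ _ (Subgroup.zpowers_le.2 hnorm)]
      exact hx
    obtain ⟨u, hu, y, hy, rfl⟩ := hx'
    obtain ⟨n, rfl⟩ := Subgroup.mem_zpowers_iff.1 hu
    refine ⟨(n % 3).toNat, by omega, g ^ (3 * (n / 3)) * y, mul_mem (hpow3 _) hy, ?_⟩
    rw [← mul_assoc, ← zpow_natCast g (n % 3).toNat, ← zpow_add]
    congr 2
    omega
  have hsub : (K : Set G) ⊆ (fun y => g ^ 0 * y) '' (H : Set G) ∪ (fun y => g ^ 1 * y) '' (H : Set G) ∪
      (fun y => g ^ 2 * y) '' (H : Set G) := by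
    intro x hx
    obtain ⟨i, hi, y, hy, rfl⟩ := hmem x hx
    rcases (show i = 0 ∨ i = 1 ∨ i = 2 by omega) with rfl | rfl | rfl
    exacts [Or.inl (Or.inl ⟨y, hy, rfl⟩), Or.inl (Or.inr ⟨y, hy, rfl⟩), Or.inr ⟨y, hy, rfl⟩]
  have hn : (H : Set G).ncard = Nat.card H := (Nat.card_coe_set_eq (H : Set G)).symm
  have e0 := Set.ncard_le_ncard hsub (Set.toFinite _)
  have e1 := Set.ncard_union_le ((fun y => g ^ 0 * y) '' (H : Set G) ∪ (fun y => g ^ 1 * y) '' (H : Set G))
    ((fun y => g ^ 2 * y) '' (H : Set G))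
  have e2 := Set.ncard_union_le ((fun y => g ^ 0 * y) '' (H : Set G)) ((fun y => g ^ 1 * y) '' (H : Set G))
  have f : ∀ i : ℕ, ((fun y => g ^ i * y) '' (H : Set G)).ncard ≤ (H : Set G).ncard := fun i =>
    Set.ncard_image_le (Set.toFinite _)
  have := f 0
  have := f 1
  have := f 2
  rw [← Nat.card_coe_set_eq] at e0
  rw [hspan]
  have hKc : Nat.card (K : Set G) = Nat.card K := rfl
  omega

theorem pc_bound : ∀ {L : List G}, PcOK L → IsPGroup 3 (spanL L) ∧ Nat.card (spanL L) ≤ 3 ^ L.length
  | [], _ => by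
    have e : spanL ([] : List G) = ⊥ := by simp [spanL]
    rw [e]
    exact ⟨IsPGroup.of_bot, by simp⟩
  | g :: t, ⟨h3, hconj, ht⟩ => by
    obtain ⟨hp, hc⟩ := pc_bound ht
    set H := spanL t with hH
    set φ := (MulAut.conj g).toMonoidHom with hφ
    have hmap : H.map φ = H := by
      refine Subgroup.eq_of_le_of_card_ge ?_ (by
        rw [Nat.card_congr (Subgroup.equivMapOfInjective H φ (MulAut.conj g).injective).symm.toEquiv])
      rw [hH, spanL, MonoidHom.map_closure, Subgroup.closure_le]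
      rintro _ ⟨x, hx, rfl⟩
      exact hconj x hx
    have hnorm : g ∈ Subgroup.normalizer (H : Set G) := by
      rw [Subgroup.mem_normalizer_iff]
      intro x
      refine ⟨fun hx => hmap ▸ ⟨x, hx, rfl⟩, fun hx => ?_⟩
      rw [← hmap] at hx
      obtain ⟨y, hy, e⟩ := hx
      have : y = x := (MulAut.conj g).injective (e.trans rfl)
      exact this ▸ hy
    set K : Subgroup G := Subgroup.zpowers g ⊔ H with hK
    have hspan : spanL (g :: t) = K := by
      rw [hK, hH, spanL, spanL, Subgroup.zpowers_eq_closure, ← Subgroup.closure_union]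
      congr 1
      ext x
      simp [List.mem_cons]
    have hpow3 : ∀ n : ℤ, g ^ (3 * n) ∈ H := fun n => by
      rw [zpow_mul, show g ^ (3 : ℤ) = g ^ 3 from zpow_natCast g 3]
      exact zpow_mem h3 n
    have hmem : ∀ x ∈ K, ∃ i < 3, ∃ y ∈ H, x = g ^ i * y := by
      intro x hx
      have hx' : x ∈ ((Subgroup.zpowers g : Set G) * (H : Set G)) := by
        rw [← Subgroup.coe_mul_of_left_le_normalizer_right _ _ (Subgroup.zpowers_le.2 hnorm)]
        exact hx
      obtain ⟨u, hu, y, hy, rfl⟩ := hx'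
      obtain ⟨n, rfl⟩ := Subgroup.mem_zpowers_iff.1 hu
      refine ⟨(n % 3).toNat, by omega, g ^ (3 * (n / 3)) * y, mul_mem (hpow3 _) hy, ?_⟩
      rw [← mul_assoc, ← zpow_natCast g (n % 3).toNat, ← zpow_add]
      congr 2
      omega
    rw [hspan]
    constructor
    · rintro ⟨x, hx⟩
      obtain ⟨i, -, y, hy, rfl⟩ := hmem x hx
      have hc' : ∀ z ∈ H, g * z * g⁻¹ ∈ H := fun z hz => (Subgroup.mem_normalizer_iff.1 hnorm z).1 hz
      have hci : ∀ (n : ℕ), ∀ z ∈ H, g ^ n * z * (g ^ n)⁻¹ ∈ H := by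
        intro n
        induction n with
        | zero => intro z hz; simpa using hz
        | succ n ih =>
          intro z hz
          rw [show g ^ (n + 1) * z * (g ^ (n + 1))⁻¹ = g * (g ^ n * z * (g ^ n)⁻¹) * g⁻¹ by rw [pow_succ']; group]
          exact hc' _ (ih z hz)
      have hxH : (g ^ i * y) ^ 3 ∈ H := by
        have e : (g ^ i * y) ^ 3 = (g ^ i * y * (g ^ i)⁻¹) * (g ^ (2 * i) * y * (g ^ (2 * i))⁻¹) *
            (g ^ (3 * i) * y * (g ^ (3 * i))⁻¹) * (g ^ 3) ^ i := by
          rw [← pow_mul, show 2 * i = i + i by omega, show 3 * i = i + i + i by omega, pow_add, pow_add,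
            pow_succ, pow_two]
          group
        rw [e]
        exact mul_mem (mul_mem (mul_mem (hci _ y hy) (hci _ y hy)) (hci _ y hy)) (pow_mem h3 i)
      obtain ⟨k, hk⟩ := hp ⟨_, hxH⟩
      refine ⟨k + 1, Subtype.ext ?_⟩
      have hk' := congrArg Subtype.val hk
      simp only [SubmonoidClass.coe_pow, OneMemClass.coe_one] at hk' ⊢
      rw [pow_succ', pow_mul, hk']
    · have := card_cons_le (show PcOK (g :: t) from ⟨h3, hconj, ht⟩)
      rw [hspan, ← hH] at this
      rw [List.length_cons, pow_succ]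
      omega

end Cfsg.Agent.TT95.Calc
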