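import Cfsg.Agent.TT95.Calc.SylDefs

/-! Type M(22): kernel checks of the table of a Sylow 3-subgroup. -/

set_option autoImplicit false

namespace Cfsg.Agent.TT95.Calc

theorem prow_check : ((List.range 9).all fun i => validW (pcW.getD i []) &&
    (List.range 3510).all fun t => Nat.beq (app (prow i) t) (act (pcW.getD i []) t)) = true := by
  decide +kernel

theorem rel_check : (pcRel.all relPOK && (List.range 9).all fun i => (List.range 9).all fun j =>
    Nat.blt j i || pcRel.any fun e => Nat.beq e.1 i && Nat.beq e.2.1 j) = true := by
  decide +kernel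

theorem id_check : (Nat.blt id0 19683 && Nat.beq (vA id0) 0 && Nat.beq (vB id0) 1 && (List.range 3).all fun k =>
    Nat.blt (rT k id0) 19683 && Nat.beq (app (prow k) (vA (rT k id0))) 0 &&
      Nat.beq (app (prow k) (vB (rT k id0))) 1) = true := by
  decide +kernel

theorem mono_check : ((List.range 19682).all fun n => Nat.blt (vecT n) (vecT (Nat.succ n))) = true := by
  decide +kernel

end Cfsg.Agent.TT95.Calc
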