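import Cfsg.Agent.TT95.Calc.SylDefs

/-! Type M(22): kernel checks of the table of a Sylow 3-subgroup. -/

set_option autoImplicit false

namespace Cfsg.Agent.TT95.Calc

theorem left_check : ((List.range 19683).all fun n => Nat.blt (vA n) 3510 && Nat.blt (vB n) 3510 &&
    (List.range 3).all fun k => Nat.blt (lT k n) 19683 && Nat.beq (app (prow k) (vA n)) (vA (lT k n)) &&
      Nat.beq (app (prow k) (vB n)) (vB (lT k n))) = true := by
  decide +kernel

end Cfsg.Agent.TT95.Calc
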