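import Cfsg.Agent.TT95.Calc.SylDefs

/-! Type M(22): kernel checks of the table of a Sylow 3-subgroup. -/

set_option autoImplicit false

namespace Cfsg.Agent.TT95.Calc

theorem right_check : ((List.range 19683).all fun n => (List.range 3).all fun k => Nat.blt (rT k n) 19683 &&
    (List.range 3).all fun p => Nat.beq (rT k (lT p n)) (lT p (rT k n))) = true := by
  decide +kernel

end Cfsg.Agent.TT95.Calc
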