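import Cfsg.Agent.TT95.Calc.Table
import Cfsg.Agent.TT95.Calc.SylRows
import Cfsg.Agent.TT95.Calc.SylTables

/-! Type M(22): kernel checks of the table of a Sylow 3-subgroup. -/

set_option autoImplicit false

namespace Cfsg.Agent.TT95.Calc

/-- The row of an element of the polycyclic sequence. -/
def prow : ℕ → ℕ
  | 0 => pr0
  | 1 => pr1
  | 2 => pr2
  | 3 => pr3
  | 4 => pr4
  | 5 => pr5
  | 6 => pr6
  | 7 => pr7
  | _ => pr8

/-- A word in them at a point. -/
def pact (w : List ℕ) (t : ℕ) : ℕ := w.foldr (fun i => app (prow i)) t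

/-- The letters are indices of the sequence. -/
def validP (w : List ℕ) : Bool := w.all fun i => Nat.blt i 9

/-- Two such words agree on the generating points. -/
def eqP (u v : List ℕ) : Bool := tgL.all fun t => Nat.beq (pact u t) (pact v t)

/-- Left multiplication. -/
def lT (k n : ℕ) : ℕ := cond (Nat.beq k 0) (lT0 n) (cond (Nat.beq k 1) (lT1 n) (lT2 n))

/-- Right multiplication by an inverse. -/
def rT (k n : ℕ) : ℕ := cond (Nat.beq k 0) (rT0 n) (cond (Nat.beq k 1) (rT1 n) (rT2 n))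

/-- The image of the first point. -/
def vA (n : ℕ) : ℕ := Nat.shiftRight (vecT n) 12

/-- The image of the second point. -/
def vB (n : ℕ) : ℕ := Nat.land (vecT n) 4095

def clK (e : ℕ) : ℕ := Nat.land e 3
def clM (e : ℕ) : ℕ := Nat.land (Nat.shiftRight e 2) 32767
def clD (e : ℕ) : ℕ := Nat.land (Nat.shiftRight e 17) 15
def clC (e : ℕ) : ℕ := Nat.shiftRight e 21

/-- The relation holds. -/
def relPOK (e : ℕ × ℕ × List ℕ) : Bool :=
  validP e.2.2 && (e.2.2.all fun k => Nat.blt e.1 k) &&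
  cond (Nat.beq e.1 e.2.1) (eqP [e.1, e.1, e.1] e.2.2) (eqP [e.1, e.2.1] (e.2.2 ++ [e.1]))

end Cfsg.Agent.TT95.Calc
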