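import Cfsg.Agent.TT95.Calc.Base
import Cfsg.Agent.TT95.Calc.PcGroup
import Cfsg.Agent.TT95.Calc.SylCheckA
import Cfsg.Agent.TT95.Calc.SylCheckB
import Cfsg.Agent.TT95.Calc.SylCheckC

/-!
Type M(22): the Sylow 3-subgroup of the tables, of order 3^9 and regular on the images of two points.
-/

set_option autoImplicit false
set_option linter.unusedSectionVars false

namespace Cfsg.Agent.TT95.Calc

open Cfsg.Agent.TT95.Uni22

variable {G : Type*} [Group G] [Finite G] {D : Set G} (hC : Cfg22 D) [Gen D] {a d : G} {δ : ℕ → G}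
  (h : Std D a d δ)

/-- An element of the polycyclic sequence. -/
def pg (d : G) (δ : ℕ → G) (i : ℕ) : G := ev d δ (pcW.getD i [])

/-- The element of a word in the sequence. -/
def pev (d : G) (δ : ℕ → G) (w : List ℕ) : G := (w.map (pg d δ)).prod

/-- The Sylow subgroup. -/
def sylP (d : G) (δ : ℕ → G) : Subgroup G := spanL ((List.range 9).map (pg d δ))

/-- The element sends the two points to the images numbered `n`. -/
def HasIdx (a d : G) (δ : ℕ → G) (x : G) (n : ℕ) : Prop :=
  n < 19683 ∧ x * name a d δ 0 * x⁻¹ = name a d δ (vA n) ∧ x * name a d δ 1 * x⁻¹ = name a d δ (vB n)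

theorem validP_iff {w : List ℕ} : validP w = true ↔ ∀ i ∈ w, i < 9 := by
  rw [validP, List.all_eq_true]
  exact ⟨fun hw i hi => Nat.le_of_ble_eq_true (hw i hi), fun hw i hi => Nat.ble_eq_true_of_le (hw i hi)⟩

theorem pev_append (u v : List ℕ) : pev d δ (u ++ v) = pev d δ u * pev d δ v := by
  simp [pev, List.map_append, List.prod_append]

theorem pev_mem_span {P : Subgroup G} {w : List ℕ} (hw : ∀ i ∈ w, pg d δ i ∈ P) : pev d δ w ∈ P := by
  refine Subgroup.list_prod_mem _ fun x hx => ?_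
  obtain ⟨i, hi, rfl⟩ := List.mem_map.1 hx
  exact hw i hi

include hC h

theorem prow_spec {i t : ℕ} (hi : i < 9) (ht : t < 3510) :
    app (prow i) t < 3510 ∧ pg d δ i * name a d δ t * (pg d δ i)⁻¹ = name a d δ (app (prow i) t) := by
  have e := List.all_eq_true.1 prow_check i (List.mem_range.2 hi)
  rw [Bool.and_eq_true] at e
  rw [Nat.eq_of_beq_eq_true (List.all_eq_true.1 e.2 t (List.mem_range.2 ht))]
  exact act_spec hC h e.1 ht

theorem pact_spec : ∀ {w : List ℕ} {t : ℕ}, validP w = true → t < 3510 →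
    pact w t < 3510 ∧ pev d δ w * name a d δ t * (pev d δ w)⁻¹ = name a d δ (pact w t)
  | [], t, _, ht => ⟨ht, by simp [pev, pact]⟩
  | i :: w, t, hw, ht => by
    have hw' := validP_iff.1 hw
    obtain ⟨h1, h2⟩ := pact_spec (w := w) (validP_iff.2 fun j hj => hw' j (List.mem_cons_of_mem _ hj)) ht
    obtain ⟨h3, h4⟩ := prow_spec hC h (hw' i (List.mem_cons_self ..)) h1
    refine ⟨h3, ?_⟩
    show pg d δ i * pev d δ w * name a d δ t * (pg d δ i * pev d δ w)⁻¹ = name a d δ (app (prow i) (pact w t))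
    rw [← h4, ← h2]
    group

theorem eq_of_fix {x y : G} (e : ∀ i < 13, x * name a d δ (tgL.getD i 0) * x⁻¹ = y * name a d δ (tgL.getD i 0) * y⁻¹) :
    x = y := by
  obtain ⟨u, hu, rfl⟩ := exists_word hC h x
  obtain ⟨v, hv, rfl⟩ := exists_word hC h y
  refine ev_eq_of_eqB hC h hu hv (List.all_eq_true.2 fun t ht => ?_)
  obtain ⟨i, hi, rfl⟩ := List.getElem_of_mem ht
  have hb := base_check
  simp only [Bool.and_eq_true] at hb
  obtain ⟨⟨⟨⟨⟨b1, b2⟩, b3⟩, b4⟩, b5⟩, b6⟩ := hb
  have hi' : i < 13 := by rw [← Nat.eq_of_beq_eq_true b3]; exact hi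
  have hlt := tgL_lt hC h hi'
  have e' := e i hi'
  rw [List.getD_eq_getElem _ _ hi] at e' hlt
  obtain ⟨h1, h2⟩ := act_spec hC h hu hlt
  obtain ⟨h3, h4⟩ := act_spec hC h hv hlt
  rw [h2, h4] at e'
  rw [name_inj hC h h1 h3 e']
  exact Nat.beq_refl _

theorem pev_eq_of_eqP {u v : List ℕ} (hu : validP u = true) (hv : validP v = true) (he : eqP u v = true) :
    pev d δ u = pev d δ v := by
  refine eq_of_fix hC h fun i hi => ?_
  have hlt := tgL_lt hC h hi
  obtain ⟨-, h2⟩ := pact_spec hC h hu hlt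
  obtain ⟨-, h4⟩ := pact_spec hC h hv hlt
  have hb := base_check
  simp only [Bool.and_eq_true] at hb
  obtain ⟨⟨⟨⟨⟨b1, b2⟩, b3⟩, b4⟩, b5⟩, b6⟩ := hb
  have hl : i < tgL.length := by rw [Nat.eq_of_beq_eq_true b3]; exact hi
  rw [h2, h4]
  refine congrArg _ ?_
  rw [List.getD_eq_getElem _ _ hl]
  exact Nat.eq_of_beq_eq_true (List.all_eq_true.1 he _ (List.getElem_mem hl))

theorem syl_bound : IsPGroup 3 (sylP d δ) ∧ Nat.card (sylP d δ) ≤ 19683 := by
  have hrc := rel_check
  rw [Bool.and_eq_true] at hrc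
  have hrel : ∀ e ∈ pcRel, e.1 < 9 → e.2.1 < 9 →
      (if e.1 = e.2.1 then pg d δ e.1 ^ 3 else pg d δ e.1 * pg d δ e.2.1 * (pg d δ e.1)⁻¹) = pev d δ e.2.2 ∧
        ∀ k ∈ e.2.2, e.1 < k ∧ k < 9 := by
    rintro ⟨i, j, w⟩ he hi hj
    have hok := List.all_eq_true.1 hrc.1 _ he
    simp only [relPOK, Bool.and_eq_true] at hok
    obtain ⟨⟨h1, h2⟩, h3⟩ := hok
    have hw := validP_iff.1 h1
    refine ⟨?_, fun k hk => ⟨Nat.le_of_ble_eq_true (List.all_eq_true.1 h2 k hk), hw k hk⟩⟩
    simp only at hi hj ⊢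
    by_cases hij : i = j
    · subst hij
      rw [Nat.beq_refl, cond_true] at h3
      rw [if_pos rfl, ← pev_eq_of_eqP hC h (validP_iff.2 (by simp [hi])) h1 h3]
      simp [pev, pow_succ, mul_assoc]
    · have hb : Nat.beq i j = false := Bool.eq_false_iff.2 fun e => hij (Nat.eq_of_beq_eq_true e)
      rw [hb, cond_false] at h3
      have e := pev_eq_of_eqP hC h (validP_iff.2 (by simp [hi, hj]))
        (validP_iff.2 (fun k hk => (List.mem_append.1 hk).elim (hw k) (fun hk => by simp at hk; omega))) h3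
      rw [pev_append] at e
      simp only [pev, List.map_cons, List.map_nil, List.prod_cons, List.prod_nil, mul_one] at e
      rw [if_neg hij, e, mul_inv_cancel_right]
      rfl
  have hok : ∀ n s, s + n = 9 → PcOK ((List.range' s n).map (pg d δ)) := by
    intro n
    induction n with
    | zero => intro s _; trivial
    | succ n ih =>
      intro s hs
      rw [List.range'_succ, List.map_cons]
      have hmem : ∀ j, s ≤ j → j < 9 → ∃ w, (s, j, w) ∈ pcRel := by
        intro j hsj hj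
        have := List.all_eq_true.1 (List.all_eq_true.1 hrc.2 s (List.mem_range.2 (by omega))) j (List.mem_range.2 hj)
        rw [Bool.or_eq_true] at this
        rcases this with e | e
        · have : j < s := Nat.le_of_ble_eq_true e
          omega
        · obtain ⟨⟨i', j', w⟩, hm, e'⟩ := List.any_eq_true.1 e
          rw [Bool.and_eq_true] at e'
          have e1 : i' = s := Nat.eq_of_beq_eq_true e'.1
          have e2 : j' = j := Nat.eq_of_beq_eq_true e'.2
          exact ⟨w, e1 ▸ e2 ▸ hm⟩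
      have hspan : ∀ {w : List ℕ}, (∀ k ∈ w, s < k ∧ k < 9) → pev d δ w ∈ spanL ((List.range' (s + 1) n).map (pg d δ)) :=
        fun hw => pev_mem_span fun k hk => Subgroup.subset_closure
          (List.mem_map.2 ⟨k, List.mem_range'_1.2 ⟨(hw k hk).1, by have := (hw k hk).2; omega⟩, rfl⟩)
      refine ⟨?_, ?_, ih (s + 1) (by omega)⟩
      · obtain ⟨w, hw⟩ := hmem s le_rfl (by omega)
        obtain ⟨e1, e2⟩ := hrel _ hw (by omega : s < 9) (by omega : s < 9)
        rw [if_pos rfl] at e1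
        rw [show pg d δ s ^ 3 = pev d δ w from e1]
        exact hspan e2
      · intro x hx
        obtain ⟨j, hj, rfl⟩ := List.mem_map.1 hx
        rw [List.mem_range'_1] at hj
        obtain ⟨w, hw⟩ := hmem j (by omega) (by omega)
        obtain ⟨e1, e2⟩ := hrel _ hw (by omega : s < 9) (by omega : j < 9)
        rw [if_neg (by show s ≠ j; omega)] at e1
        rw [show pg d δ s * pg d δ j * (pg d δ s)⁻¹ = pev d δ w from e1]
        exact hspan e2
  have hb := pc_bound (L := (List.range' 0 9).map (pg d δ)) (hok 9 0 rfl)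
  rw [← List.range_eq_range'] at hb
  exact ⟨hb.1, hb.2.trans (by simp)⟩

theorem left_step {x : G} {n k : ℕ} (hk : k < 3) (hx : HasIdx a d δ x n) : HasIdx a d δ (pg d δ k * x) (lT k n) := by
  obtain ⟨hn, h0, h1⟩ := hx
  have e := List.all_eq_true.1 left_check n (List.mem_range.2 hn)
  simp only [Bool.and_eq_true] at e
  obtain ⟨⟨a0, a1⟩, e'⟩ := e
  have e'' := List.all_eq_true.1 e' k (List.mem_range.2 hk)
  simp only [Bool.and_eq_true] at e''
  obtain ⟨⟨b0, b1⟩, b2⟩ := e''
  obtain ⟨-, p0⟩ := prow_spec hC h (i := k) (by omega) (Nat.le_of_ble_eq_true a0)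
  obtain ⟨-, p1⟩ := prow_spec hC h (i := k) (by omega) (Nat.le_of_ble_eq_true a1)
  rw [Nat.eq_of_beq_eq_true b1] at p0
  rw [Nat.eq_of_beq_eq_true b2] at p1
  refine ⟨Nat.le_of_ble_eq_true b0, ?_, ?_⟩
  · rw [← p0, ← h0]; group
  · rw [← p1, ← h1]; group

theorem hasIdx_one : HasIdx a d δ 1 id0 := by
  have e := id_check
  simp only [Bool.and_eq_true] at e
  obtain ⟨⟨⟨e1, e2⟩, e3⟩, -⟩ := e
  refine ⟨Nat.le_of_ble_eq_true e1, ?_, ?_⟩
  · rw [Nat.eq_of_beq_eq_true e2]; group
  · rw [Nat.eq_of_beq_eq_true e3]; group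

theorem vA_lt {n : ℕ} (hn : n < 19683) : vA n < 3510 ∧ vB n < 3510 := by
  have e := List.all_eq_true.1 left_check n (List.mem_range.2 hn)
  simp only [Bool.and_eq_true] at e
  exact ⟨Nat.le_of_ble_eq_true e.1.1, Nat.le_of_ble_eq_true e.1.2⟩

theorem idx_unique {x : G} {m n : ℕ} (hm : HasIdx a d δ x m) (hn : HasIdx a d δ x n) : m = n := by
  obtain ⟨m1, m2, m3⟩ := hm
  obtain ⟨n1, n2, n3⟩ := hn
  have eA := name_inj hC h (vA_lt hC h m1).1 (vA_lt hC h n1).1 (m2.symm.trans n2)
  have eB := name_inj hC h (vA_lt hC h m1).2 (vA_lt hC h n1).2 (m3.symm.trans n3)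
  have ev_ : vecT m = vecT n := by
    have e : ∀ v : ℕ, v = Nat.shiftRight v 12 * 4096 + Nat.land v 4095 := by
      intro v
      show v = v >>> 12 * 4096 + (v &&& 4095)
      rw [Nat.shiftRight_eq_div_pow, show 4095 = 2 ^ 12 - 1 by rfl, Nat.and_two_pow_sub_one_eq_mod]
      omega
    rw [e (vecT m), e (vecT n)]
    show vA m * 4096 + vB m = vA n * 4096 + vB n
    rw [eA, eB]
  have hlt : ∀ k n, n + k + 1 < 19683 → vecT n < vecT (n + k + 1) := by
    intro k
    induction k with
    | zero => intro n hn; exact Nat.le_of_ble_eq_true (List.all_eq_true.1 mono_check n (List.mem_range.2 (by omega)))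
    | succ k ih =>
      intro n hn
      exact (ih n (by omega)).trans
        (Nat.le_of_ble_eq_true (List.all_eq_true.1 mono_check (n + k + 1) (List.mem_range.2 (by omega))))
  rcases Nat.lt_trichotomy m n with hl | hl | hl
  · have := hlt (n - m - 1) m (by omega)
    rw [show m + (n - m - 1) + 1 = n by omega] at this
    omega
  · exact hl
  · have := hlt (m - n - 1) n (by omega)
    rw [show n + (m - n - 1) + 1 = m by omega] at this
    omega

end Cfsg.Agent.TT95.Calc
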