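import Cfsg.Agent.TT95.Calc.RowData
import Cfsg.Agent.TT95.Uni22.Defs

/-! Type M(22): quick evaluation of words in the thirteen generators on the 3510 points, with the kernel
checks of the rows. -/

set_option autoImplicit false

namespace Cfsg.Agent.TT95.Calc

open Cfsg.Agent.TT95.Uni22

/-- The row of a generator. -/
def row (g : ℕ) : ℕ := cond (Nat.blt g 7)
  (cond (Nat.blt g 3) (cond (Nat.beq g 0) r0 (cond (Nat.beq g 1) r1 r2))
    (cond (Nat.blt g 5) (cond (Nat.beq g 3) r3 r4) (cond (Nat.beq g 5) r5 r6)))
  (cond (Nat.blt g 10) (cond (Nat.beq g 7) r7 (cond (Nat.beq g 8) r8 r9))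
    (cond (Nat.beq g 10) r10 (cond (Nat.beq g 11) r11 r12)))

/-- A packed permutation at a point. -/
def app (r t : ℕ) : ℕ := Nat.land (Nat.shiftRight r (Nat.mul 12 t)) 4095

/-- The image of a point under a generator. -/
def gt (g t : ℕ) : ℕ := app (row g) t

/-- The image of a point under a word, the last letter acting first. -/
def act (w : List ℕ) (t : ℕ) : ℕ := w.foldr gt t

/-- The letters are generators. -/
def validW (w : List ℕ) : Bool := w.all fun i => Nat.blt i 13

/-- The path of a point with fuel, as in `nameF`. -/
def pathF : ℕ → ℕ → List ℕ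
  | 0, _ => []
  | f + 1, t => cond (Nat.beq t 0) [] (parG t :: pathF f (parP t))

/-- The path of a point. -/
def pathW (t : ℕ) : List ℕ := pathF 8 t

/-- The word of the transposition of a point. -/
def memW (t : ℕ) : List ℕ := (pathW t ++ u0) ++ (12 :: (pathW t ++ u0).reverse)

/-- Two different transpositions commute. -/
def adjB (t u : ℕ) : Bool :=
  let x := act (pathW t).reverse u
  !Nat.beq x 0 && !Nat.testBit farM x

/-- Two transpositions commute. -/
def comB (t u : ℕ) : Bool := Nat.beq t u || adjB t u

/-- Two words agree on the generating points. -/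
def eqB (u v : List ℕ) : Bool := tgL.all fun t => Nat.beq (act u t) (act v t)

/-- The steps of the orbit certificate. -/
def farL : List ℕ := (List.range 2815).map fun i => Nat.land (Nat.shiftRight farP (Nat.mul 32 i)) 4294967295

/-- The orbit certificate is correct. -/
def farOK : List ℕ → ℕ → Bool
  | [], seen => Nat.beq seen farM
  | e :: L, seen =>
    let x := Nat.land e 4095
    let g := Nat.land (Nat.shiftRight e 12) 15
    let y := Nat.shiftRight e 16
    Nat.testBit seen x && Nat.blt g 12 && Nat.blt y 3510 && Nat.beq (gt g x) y && !Nat.testBit seen y &&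
      farOK L (Nat.lor seen (Nat.shiftLeft 1 y))

theorem row_check : ((List.range 3510).all fun t => (List.range 13).all fun g =>
    Nat.beq (gt g t) (eTgt (ent t g))) = true := by
  decide +kernel

theorem path_check : ((List.range 3510).all fun t => validW (pathW t)) = true := by decide +kernel

theorem base_check : (validW u0 && Nat.beq (act u0 (tgL.getD 12 0)) 0 && Nat.beq tgL.length 13 &&
    (tgL.all fun t => Nat.blt t 3510) && Nat.beq (gt 12 0) x0 && farOK farL (Nat.shiftLeft 1 x0)) = true := by
  decide +kernel

theorem fix_check : ((List.range 13).all fun g => (List.range 3510).all fun u =>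
    Nat.beq (gt g u) u == comB (tgL.getD g 0) u) = true := by
  decide +kernel

end Cfsg.Agent.TT95.Calc
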